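import Cfsg.Agent.Lib.Small.SuzTwo.Data

/-!
Finite checks on the named elements of the orthogonal group of minus type in dimension six.
-/

set_option autoImplicit false
set_option maxRecDepth 100000
set_option maxHeartbeats 0

namespace CfsgLib.Small.SuzTwo

theorem roots_q : ∀ i : Ix, ∀ v, qb ((rts i).1.ap v) = qb v ∧ qb ((rts i).2.ap v) = qb v := by
  decide +kernel

theorem roots_mul : ∀ i : Ix, ∀ v,
    (nm i).ap v = (rts i).1.ap ((rts i).1.ap ((rts i).2.ap ((rts i).2.ap v))) := by decide +kernel

end CfsgLib.Small.SuzTwo
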