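import Cfsg.Agent.Lib.Small.SuzTwo.Data

/-!
Finite checks on the named elements of the orthogonal group of minus type in dimension six.
-/

set_option autoImplicit false
set_option maxRecDepth 100000
set_option maxHeartbeats 0

namespace CfsgLib.Small.SuzTwo

theorem syl_mul : ∀ a b : Fin 64, (sylM a).mul (sylM b) = sylM (sylMul a b) := by
  decide +kernel

theorem syl_named : ∀ a : Fin 64, sylM a = nm (syl a) := by decide +kernel

theorem syl_wit : ∀ a : Fin 64, (sylM a).mul (sylM a) = idMat →
    sylM a = idMat ∨ ∃ w ∈ sylWit, w.1 = sylM a := by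
  decide +kernel

theorem sylWit_ok : ∀ w ∈ sylWit, (w.2.1 = nm ixA ∨ w.2.1 = nm ixC) ∧
    (nm w.2.2).mul w.1 = w.2.1.mul (nm w.2.2) := by
  decide +kernel

theorem syl_inj : sylMats.Nodup ∧ sylMats.length = 64 := by decide +kernel

end CfsgLib.Small.SuzTwo
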