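import Cfsg.Agent.Lib.Small.SuzTwo.Facts
import Cfsg.Agent.Lib.Small.SuzTwo.FactsSyl
import Cfsg.Agent.Lib.Small.SuzTwo.FactsRoots

/-!
The orthogonal group of minus type in dimension six as permutations, and its subgroups of
order 25920: they contain all named elements and have the named Sylow 2-subgroup.
-/

set_option autoImplicit false
set_option maxRecDepth 20000
set_option linter.style.haveILetI false

namespace CfsgLib.Small.SuzTwo

open Equiv

theorem vadd_zero (v : Fin 64) : vadd v 0 = v := vadd_zero_all v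

theorem zero_vadd (v : Fin 64) : vadd 0 v = v := by rw [vadd_comm_all, vadd_zero]

theorem vadd_self (v : Fin 64) : vadd v v = 0 := vadd_self_all v

theorem vadd_cancel (v w : Fin 64) : vadd v (vadd v w) = w := by
  rw [← vadd_assoc_all, vadd_self, zero_vadd]

theorem vadd_eq_zero {v w : Fin 64} (h : vadd v w = 0) : v = w := by
  have h1 := congrArg (vadd v) h
  rw [vadd_cancel, vadd_zero] at h1
  exact h1.symm

theorem vadd_left_inj {v w u : Fin 64} (h : vadd v w = vadd v u) : w = u := by
  rw [← vadd_cancel v w, h, vadd_cancel]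

theorem vadd_four (a b c d : Fin 64) :
    vadd (vadd a b) (vadd c d) = vadd (vadd a c) (vadd b d) := by
  rw [vadd_assoc_all, ← vadd_assoc_all b c, vadd_comm_all b c, vadd_assoc_all c b,
    ← vadd_assoc_all]

instance : Std.Associative vadd := ⟨vadd_assoc_all⟩

instance : Std.Commutative vadd := ⟨vadd_comm_all⟩

theorem testBit_vadd (v w : Fin 64) (j : ℕ) :
    (vadd v w).val.testBit j = (v.val.testBit j ^^ w.val.testBit j) := by
  rw [vadd_val, Nat.testBit_xor]

theorem sel_xor (b c : Bool) (x : Fin 64) : sel (b ^^ c) x = vadd (sel b x) (sel c x) := by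
  cases b <;> cases c <;> simp [sel, vadd_zero, zero_vadd, vadd_self]

theorem ap_add (a : Mat) (v w : Fin 64) : a.ap (vadd v w) = vadd (a.ap v) (a.ap w) := by
  simp only [Mat.ap, testBit_vadd, sel_xor]
  ac_rfl

theorem ap_zero (a : Mat) : a.ap 0 = 0 := by
  simp [Mat.ap, sel, vadd_zero]

theorem ap_ev (a : Mat) : a.ap (ev 0) = a.c0 ∧ a.ap (ev 1) = a.c1 ∧ a.ap (ev 2) = a.c2 ∧
    a.ap (ev 3) = a.c3 ∧ a.ap (ev 4) = a.c4 ∧ a.ap (ev 5) = a.c5 := by
  simp [Mat.ap, sel, ev, Nat.testBit, zero_vadd, vadd_zero]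

theorem mat_ext {a b : Mat} (h : ∀ j, a.ap (ev j) = b.ap (ev j)) : a = b := by
  obtain ⟨h0, h1, h2, h3, h4, h5⟩ := ap_ev a
  obtain ⟨g0, g1, g2, g3, g4, g5⟩ := ap_ev b
  have e0 := h 0
  have e1 := h 1
  have e2 := h 2
  have e3 := h 3
  have e4 := h 4
  have e5 := h 5
  rw [h0, g0] at e0
  rw [h1, g1] at e1
  rw [h2, g2] at e2
  rw [h3, g3] at e3
  rw [h4, g4] at e4
  rw [h5, g5] at e5
  cases a
  cases b
  simp only at e0 e1 e2 e3 e4 e5
  subst e0 e1 e2 e3 e4 e5
  rfl

theorem bl_vadd_left (u v w : Fin 64) : bl (vadd u v) w = (bl u w ^^ bl v w) := by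
  simp only [bl_formula, testBit_vadd, Bool.and_xor_distrib_right]
  simp only [Bool.xor_assoc, Bool.xor_comm, Bool.xor_left_comm]

theorem bl_vadd_right (u v w : Fin 64) : bl u (vadd v w) = (bl u v ^^ bl u w) := by
  rw [bl_comm_all, bl_vadd_left, bl_comm_all v, bl_comm_all w]

theorem qb_vadd (v w : Fin 64) : qb (vadd v w) = ((qb v ^^ qb w) ^^ bl v w) := by
  unfold bl
  cases qb (vadd v w) <;> cases qb v <;> cases qb w <;> rfl

theorem qb_zero : qb 0 = false := rfl

theorem bl_self (v : Fin 64) : bl v v = false := by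
  unfold bl
  rw [vadd_self, qb_zero]
  cases qb v <;> rfl

/-- The additive permutations preserving the quadratic form. -/
def O : Subgroup (Perm (Fin 64)) where
  carrier := {π | (∀ v w, π (vadd v w) = vadd (π v) (π w)) ∧ ∀ v, qb (π v) = qb v}
  one_mem' := ⟨fun _ _ => rfl, fun _ => rfl⟩
  mul_mem' := fun {a b} ha hb =>
    ⟨fun v w => by rw [Perm.mul_apply, Perm.mul_apply, Perm.mul_apply, hb.1, ha.1],
      fun v => by rw [Perm.mul_apply, ha.2, hb.2]⟩
  inv_mem' := fun {a} ha =>
    ⟨fun v w => a.injective (by simp [ha.1]), fun v => by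
      have h := ha.2 (a⁻¹ v)
      rwa [show a (a⁻¹ v) = v by simp, eq_comm] at h⟩

theorem O_add {π : Perm (Fin 64)} (h : π ∈ O) (v w : Fin 64) :
    π (vadd v w) = vadd (π v) (π w) := h.1 v w

theorem O_q {π : Perm (Fin 64)} (h : π ∈ O) (v : Fin 64) : qb (π v) = qb v := h.2 v

theorem O_zero {π : Perm (Fin 64)} (h : π ∈ O) : π 0 = 0 := by
  have h1 := O_add h 0 0
  rw [vadd_self 0] at h1
  rw [h1, vadd_self]

theorem O_bl {π : Perm (Fin 64)} (h : π ∈ O) (v w : Fin 64) : bl (π v) (π w) = bl v w := by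
  unfold bl
  rw [← O_add h, O_q h, O_q h, O_q h]

/-- The matrix of a permutation. -/
def matOf (π : Perm (Fin 64)) : Mat := ⟨π 1, π 2, π 4, π 8, π 16, π 32⟩

theorem O_sel {π : Perm (Fin 64)} (h : π ∈ O) (b : Bool) (x : Fin 64) :
    π (sel b x) = sel b (π x) := by
  cases b
  · exact O_zero h
  · rfl

theorem O_apply {π : Perm (Fin 64)} (h : π ∈ O) (v : Fin 64) : π v = (matOf π).ap v := by
  conv_lhs => rw [← span_basis v]
  simp only [Mat.ap, O_add h, O_sel h, idMat, matOf]

theorem O_ext {π σ : Perm (Fin 64)} (h : π ∈ O) (h' : σ ∈ O) (he : ∀ j, π (ev j) = σ (ev j)) :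
    π = σ := by
  have hm : matOf π = matOf σ := mat_ext fun j => by rw [← O_apply h, ← O_apply h', he]
  exact Equiv.ext fun v => by rw [O_apply h, O_apply h', hm]

theorem injective_of_q {a : Mat} (h : ∀ v, qb (a.ap v) = qb v) : Function.Injective a.ap := by
  intro v w hvw
  refine vadd_eq_zero (bl_nondeg _ fun u => ?_)
  have h0 : a.ap (vadd v w) = 0 := by rw [ap_add, hvw, vadd_self]
  have h1 : qb (vadd v w) = false := by rw [← h, h0, qb_zero]
  have h2 : qb (vadd (vadd v w) u) = qb u := by rw [← h, ap_add, h0, zero_vadd, h]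
  unfold bl
  rw [h1, h2]
  cases qb u <;> rfl

/-- The first root of a named element. -/
noncomputable def root1 (i : Ix) : Perm (Fin 64) :=
  Equiv.ofBijective _ (Finite.injective_iff_bijective.1
    (injective_of_q fun v => (roots_q i v).1))

/-- The second root of a named element. -/
noncomputable def root2 (i : Ix) : Perm (Fin 64) :=
  Equiv.ofBijective _ (Finite.injective_iff_bijective.1
    (injective_of_q fun v => (roots_q i v).2))

theorem root1_mem (i : Ix) : root1 i ∈ O :=
  ⟨fun v w => ap_add _ v w, fun v => (roots_q i v).1⟩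

theorem root2_mem (i : Ix) : root2 i ∈ O :=
  ⟨fun v w => ap_add _ v w, fun v => (roots_q i v).2⟩

/-- The named element as a permutation. -/
noncomputable def P (i : Ix) : Perm (Fin 64) := root1 i * root1 i * (root2 i * root2 i)

theorem P_apply (i : Ix) (v : Fin 64) : P i v = (nm i).ap v := (roots_mul i v).symm

theorem P_mem (i : Ix) : P i ∈ O :=
  mul_mem (mul_mem (root1_mem i) (root1_mem i)) (mul_mem (root2_mem i) (root2_mem i))

theorem P_eq {i : Ix} {π : Perm (Fin 64)} (h : π ∈ O) (he : matOf π = nm i) : π = P i :=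
  Equiv.ext fun v => by rw [O_apply h, he, P_apply]

theorem ap_mul (a b : Mat) (v : Fin 64) : (a.mul b).ap v = a.ap (b.ap v) := by
  have hs : ∀ (c : Bool) (x : Fin 64), a.ap (sel c x) = sel c (a.ap x) := fun c x => by
    cases c
    · exact ap_zero a
    · rfl
  show (a.mul b).ap v = a.ap (vadd _ _)
  rw [ap_add, ap_add, ap_add, ap_add, ap_add]
  simp only [hs]
  rfl

/-! ### The order of the orthogonal group -/

theorem card_le_orbit_mul {S S' : Subgroup (Perm (Fin 64))} (b : Fin 64) (X : List (Fin 64))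
    (hX : ∀ π ∈ S, π b ∈ X) (hS' : ∀ π ∈ S, π b = b → π ∈ S') :
    Nat.card S ≤ X.length * Nat.card S' := by
  classical
  have h1 := Subgroup.card_eq_card_quotient_mul_card_subgroup (MulAction.stabilizer S b)
  have h2 : Nat.card (S ⧸ MulAction.stabilizer S b) ≤ X.length := by
    rw [← Nat.card_congr (MulAction.orbitEquivQuotientStabilizer S b)]
    calc Nat.card (MulAction.orbit S b) ≤ Nat.card X.toFinset := by
          refine Nat.card_le_card_of_injective
            (fun x => ⟨x.1, List.mem_toFinset.2 ?_⟩)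
            (fun x y h => Subtype.ext (congrArg (fun t : X.toFinset => t.1) h))
          obtain ⟨π, hπ⟩ := x.2
          rw [← hπ]
          exact hX π π.2
      _ = X.toFinset.card := Nat.card_eq_finsetCard _
      _ ≤ X.length := List.toFinset_card_le X
  have h3 : Nat.card (MulAction.stabilizer S b) ≤ Nat.card S' :=
    Nat.card_le_card_of_injective
      (fun π => ⟨(π.1 : Perm (Fin 64)), hS' _ π.1.2 (MulAction.mem_stabilizer_iff.1 π.2)⟩)
      (fun π σ h => Subtype.ext (Subtype.ext (congrArg (fun t : S' => t.1) h)))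
  rw [h1]
  exact Nat.mul_le_mul h2 h3

/-- The candidates for the image of a point. -/
def opts (p : Fin 64) (fixed : List (Fin 64)) : List (Fin 64) :=
  (List.finRange 64).filter fun x =>
    x != 0 && qb x == qb p && fixed.all fun f => bl x f == bl p f

/-- The stabiliser of a list of points. -/
def stabList : List (Fin 64) → Subgroup (Perm (Fin 64))
  | [] => O
  | b :: l => stabList l ⊓ MulAction.stabilizer (Perm (Fin 64)) b

theorem stabList_le : ∀ l, stabList l ≤ O
  | [] => le_rfl
  | _ :: l => inf_le_left.trans (stabList_le l)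

theorem stabList_fix : ∀ (l : List (Fin 64)) (π : Perm (Fin 64)), π ∈ stabList l →
    ∀ f ∈ l, π f = f
  | [], _, _, f, hf => absurd hf (List.not_mem_nil)
  | b :: l, π, h, f, hf => by
    rcases List.mem_cons.1 hf with rfl | hf
    · exact h.2
    · exact stabList_fix l π h.1 f hf

theorem stabList_step {b : Fin 64} (hb : b ≠ 0) (l : List (Fin 64)) :
    Nat.card (stabList l) ≤ (opts b l).length * Nat.card (stabList (b :: l)) := by
  refine card_le_orbit_mul b _ (fun π h => ?_) (fun π h he => ⟨h, he⟩)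
  have hO := stabList_le l h
  simp only [opts, List.mem_filter, List.mem_finRange, true_and, Bool.and_eq_true, bne_iff_ne,
    ne_eq, beq_iff_eq, List.all_eq_true]
  refine ⟨⟨fun h0 => hb (π.injective (h0.trans (O_zero hO).symm)), O_q hO b⟩, fun f hf => ?_⟩
  conv_lhs => rw [← stabList_fix l π h f hf]
  exact O_bl hO b f

theorem opts_card : (opts 2 []).length = 27 ∧ (opts 16 [2]).length = 16 ∧
    (opts 4 [16, 2]).length = 5 ∧ (opts 32 [4, 16, 2]).length = 4 ∧
    (opts 1 [32, 4, 16, 2]).length = 3 ∧ (opts 8 [1, 32, 4, 16, 2]).length = 2 := by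
  decide +kernel

theorem card_O_le : Nat.card O ≤ 51840 := by
  obtain ⟨c1, c2, c3, c4, c5, c6⟩ := opts_card
  have s1 := stabList_step (b := 2) (by decide) []
  have s2 := stabList_step (b := 16) (by decide) [2]
  have s3 := stabList_step (b := 4) (by decide) [16, 2]
  have s4 := stabList_step (b := 32) (by decide) [4, 16, 2]
  have s5 := stabList_step (b := 1) (by decide) [32, 4, 16, 2]
  have s6 := stabList_step (b := 8) (by decide) [1, 32, 4, 16, 2]
  have hlast : stabList [8, 1, 32, 4, 16, 2] = ⊥ := by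
    refine (Subgroup.eq_bot_iff_forall _).2 fun π hπ => ?_
    refine O_ext (stabList_le _ hπ) (one_mem O) fun j => ?_
    have hf := stabList_fix _ π hπ
    fin_cases j <;> exact hf _ (by decide)
  rw [c1] at s1
  rw [c2] at s2
  rw [c3] at s3
  rw [c4] at s4
  rw [c5] at s5
  rw [c6, hlast, Subgroup.card_bot] at s6
  show Nat.card (stabList []) ≤ 51840
  omega

variable {R : Subgroup (Perm (Fin 64))}

/-- The squares of orthogonal maps lie in a subgroup of order 25920. -/
theorem sq_mem (hR : R ≤ O) (hc : Nat.card R = 25920) {π : Perm (Fin 64)} (h : π ∈ O) :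
    π * π ∈ R := by
  have h1 := (R.subgroupOf O).card_mul_index
  rw [Nat.card_congr (Subgroup.subgroupOfEquivOfLe hR).toEquiv, hc] at h1
  have h2 := card_O_le
  have h3 : (R.subgroupOf O).index ≠ 0 := Subgroup.index_ne_zero_of_finite
  rcases (show (R.subgroupOf O).index = 1 ∨ (R.subgroupOf O).index = 2 by
    rcases Nat.lt_or_ge (R.subgroupOf O).index 3 with h4 | h4
    · omega
    · nlinarith) with hi | hi
  · rw [Subgroup.index_eq_one] at hi
    have : (⟨π * π, mul_mem h h⟩ : O) ∈ R.subgroupOf O := hi ▸ Subgroup.mem_top _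
    exact this
  · exact Subgroup.mul_self_mem_of_index_two hi ⟨π, h⟩

theorem named_mem (hR : R ≤ O) (hc : Nat.card R = 25920) (i : Ix) : P i ∈ R :=
  mul_mem (sq_mem hR hc (root1_mem i)) (sq_mem hR hc (root2_mem i))

/-! ### The Sylow 2-subgroup -/

theorem P_syl_apply (a : Fin 64) (v : Fin 64) : P (syl a) v = (sylM a).ap v := by
  rw [P_apply, syl_named]

theorem syl_mul_perm (a b : Fin 64) : P (syl a) * P (syl b) = P (syl (sylMul a b)) :=
  Equiv.ext fun v => by
    rw [Perm.mul_apply, P_syl_apply, P_syl_apply, P_syl_apply, ← ap_mul, syl_mul]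

theorem syl_P_inj : Function.Injective fun a => P (syl a) := by
  intro a b h
  have he : sylM a = sylM b :=
    mat_ext fun j => by rw [← P_syl_apply, ← P_syl_apply]; exact congrArg (fun p : Perm (Fin 64) => p (ev j)) h
  have hl := syl_inj.2
  have ha : a.val < sylMats.length := by omega
  have hb : b.val < sylMats.length := by omega
  rw [sylM, sylM, List.getD_eq_getElem _ _ ha, List.getD_eq_getElem _ _ hb] at he
  exact Fin.ext ((syl_inj.1.getElem_inj_iff).1 he)

theorem sylMul_left_id : (1 : Perm (Fin 64)) ∈ Set.range fun a => P (syl a) := by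
  have hinj : Function.Injective (sylMul 0) := by
    intro b c hbc
    have h := syl_mul_perm 0 b
    rw [hbc, ← syl_mul_perm 0 c] at h
    exact syl_P_inj (mul_left_cancel h)
  obtain ⟨a, ha⟩ := (Finite.injective_iff_bijective.1 hinj).2 0
  have he := syl_mul_perm 0 a
  rw [ha] at he
  exact ⟨a, mul_eq_left.1 he⟩

/-- The named Sylow 2-subgroup. -/
noncomputable def TS : Subgroup (Perm (Fin 64)) :=
  Subgroup.closure (Set.range fun a => P (syl a))

theorem mem_TS {π : Perm (Fin 64)} : π ∈ TS ↔ ∃ a, P (syl a) = π := by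
  refine ⟨fun h => ?_, fun ⟨a, ha⟩ => Subgroup.subset_closure ⟨a, ha⟩⟩
  have hS : (Submonoid.closure (Set.range fun a => P (syl a)) : Set (Perm (Fin 64))) ⊆
      Set.range fun a => P (syl a) := by
    intro x hx
    induction hx using Submonoid.closure_induction with
    | mem y hy => exact hy
    | one =>
      exact sylMul_left_id
    | mul y w _ _ hy hw =>
      obtain ⟨a, rfl⟩ := hy
      obtain ⟨b, rfl⟩ := hw
      exact ⟨_, (syl_mul_perm a b).symm⟩
  refine hS ?_
  rw [← Subgroup.closure_toSubmonoid_of_finite]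
  exact h

theorem card_TS : Nat.card TS = 64 := by
  have h : (TS : Set (Perm (Fin 64))) = Set.range fun a => P (syl a) :=
    Set.ext fun π => mem_TS.trans Iff.rfl
  show Nat.card (TS : Set (Perm (Fin 64))) = 64
  rw [h, Nat.card_congr (Equiv.ofInjective _ syl_P_inj).symm, Nat.card_fin]

/-- Every 2-subgroup of a subgroup of order 25920 is conjugate in it into the named one. -/
theorem conj_into_TS (hR : R ≤ O) (hc : Nat.card R = 25920) {B : Subgroup (Perm (Fin 64))}
    (hB : B ≤ R) (hB2 : IsPGroup 2 B) : ∃ c ∈ R, ∀ b ∈ B, c * b * c⁻¹ ∈ TS := by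
  haveI : Fact (Nat.Prime 2) := ⟨Nat.prime_two⟩
  have hTR : TS ≤ R := fun π h => by
    obtain ⟨a, rfl⟩ := mem_TS.1 h
    exact named_mem hR hc _
  have hf : (25920 : ℕ).factorization 2 = 6 := by
    rw [show (25920 : ℕ) = 2 ^ 6 * 405 by norm_num,
      Nat.factorization_mul (by norm_num) (by norm_num)]
    rw [Finsupp.add_apply, Nat.prime_two.factorization_pow, Finsupp.single_eq_same,
      Nat.factorization_eq_zero_of_not_dvd (show ¬ 2 ∣ 405 by norm_num)]
  have hcardT : Nat.card (TS.subgroupOf R) = 2 ^ (Nat.card R).factorization 2 := by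
    rw [Nat.card_congr (Subgroup.subgroupOfEquivOfLe hTR).toEquiv, card_TS, hc, hf]
    norm_num
  let T : Sylow 2 R := Sylow.ofCard (TS.subgroupOf R) hcardT
  have hB' : IsPGroup 2 (B.subgroupOf R) :=
    hB2.of_equiv (Subgroup.subgroupOfEquivOfLe hB).symm
  obtain ⟨S, hS⟩ := hB'.exists_le_sylow
  obtain ⟨c, hc'⟩ := MulAction.exists_smul_eq R S T
  refine ⟨c, c.2, fun b hb => ?_⟩
  have h1 : c * ⟨b, hB hb⟩ * c⁻¹ ∈ (T : Subgroup R) := by
    rw [← hc', Sylow.coe_subgroup_smul]
    exact Subgroup.mem_map.2 ⟨⟨b, hB hb⟩, hS hb, rfl⟩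
  exact h1

/-- Every involution of a subgroup of order 25920 is conjugate to one of the two. -/
theorem invol_conj (hR : R ≤ O) (hc : Nat.card R = 25920) {π : Perm (Fin 64)} (hπ : π ∈ R)
    (h2 : π * π = 1) (h1 : π ≠ 1) :
    ∃ c ∈ R, c * π * c⁻¹ = P ixA ∨ c * π * c⁻¹ = P ixC := by
  have hB : IsPGroup 2 (Subgroup.zpowers π) := by
    haveI : Fact (Nat.Prime 2) := ⟨Nat.prime_two⟩
    refine IsPGroup.of_card (n := 1) ?_
    rw [Nat.card_zpowers, pow_one]
    exact orderOf_eq_prime (by rw [sq, h2]) h1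
  obtain ⟨c, hcR, hcT⟩ := conj_into_TS hR hc (Subgroup.zpowers_le.2 hπ) hB
  obtain ⟨a, ha⟩ := mem_TS.1 (hcT π (Subgroup.mem_zpowers π))
  have hsq : P (syl a) * P (syl a) = 1 := by
    rw [ha]
    calc c * π * c⁻¹ * (c * π * c⁻¹) = c * (π * π) * c⁻¹ := by group
      _ = 1 := by rw [h2]; group
  have hm : (sylM a).mul (sylM a) = idMat := mat_ext fun j => by
    rw [ap_mul, span_basis, ← P_syl_apply, ← P_syl_apply, ← Perm.mul_apply, hsq]
    rfl
  rcases syl_wit a hm with hid | ⟨w, hw, hwa⟩
  · refine absurd ?_ h1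
    have h : P (syl a) = 1 := Equiv.ext fun v => by rw [P_syl_apply, hid, span_basis]; rfl
    rw [ha, conj_eq_one_iff] at h
    exact h
  · obtain ⟨hk, hmul⟩ := sylWit_ok w hw
    refine ⟨P w.2.2 * c, mul_mem (named_mem hR hc _) hcR, ?_⟩
    have hconv : ∀ k : Ix, w.2.1 = nm k → P w.2.2 * c * π * (P w.2.2 * c)⁻¹ = P k := by
      intro k hk'
      have e : P w.2.2 * P (syl a) = P k * P w.2.2 := Equiv.ext fun v => by
        simp only [Perm.mul_apply, P_apply, P_syl_apply, ← ap_mul]
        rw [← syl_named, ← hwa, ← hk', hmul]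
      rw [ha] at e
      calc P w.2.2 * c * π * (P w.2.2 * c)⁻¹ = P w.2.2 * (c * π * c⁻¹) * (P w.2.2)⁻¹ := by
            group
        _ = P k * P w.2.2 * (P w.2.2)⁻¹ := by rw [e]
        _ = P k := mul_inv_cancel_right _ _
    exact hk.imp (hconv ixA) (hconv ixC)

end CfsgLib.Small.SuzTwo
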