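import Cfsg.Agent.Lib.Small.SuzTwo.Data

/-!
Finite checks on the named elements of the orthogonal group of minus type in dimension six.
-/

set_option autoImplicit false
set_option maxRecDepth 100000
set_option maxHeartbeats 0

namespace CfsgLib.Small.SuzTwo

theorem siegel_complete : ∀ s0 s2 s3 s5 : Bool, ∀ x : Fin 64,
    let m : Mat := ⟨vadd 1 (sel s0 pt), pt, vadd 4 (sel s2 pt), vadd 8 (sel s3 pt), x,
      vadd 32 (sel s5 pt)⟩
    ((∀ j, qb (m.ap (ev j)) = qb (ev j)) ∧
      ∀ i j, bl (m.ap (ev i)) (m.ap (ev j)) = bl (ev i) (ev j)) →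
    ∃ s ∈ siegel, nm s = m := by
  decide +kernel

theorem siegel_cases : ∀ s ∈ siegel, nm s = idMat ∨ ∃ w ∈ siegelWit, w.1 = s := by
  decide +kernel

theorem siegelWit_all : siegelWit.all (fun w => ((nm w.2.2).ap pt == pt) &&
    (((w.2.1 == ixA) || ((w.2.1 == ixC) && siegelC.contains w.1)) &&
    decide ((nm w.2.2).mul (nm w.2.1) = (nm w.1).mul (nm w.2.2)))) = true := by
  decide +kernel

theorem siegelWit_ok : ∀ w ∈ siegelWit, (nm w.2.2).ap pt = pt ∧
    (w.2.1 = ixA ∨ (w.2.1 = ixC ∧ w.1 ∈ siegelC)) ∧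
    (nm w.2.2).mul (nm w.2.1) = (nm w.1).mul (nm w.2.2) := by
  intro w hw
  have h := List.all_eq_true.1 siegelWit_all w hw
  simpa [Bool.and_eq_true, Bool.or_eq_true, List.elem_eq_contains] using h

theorem siegelC_conj : ∀ s ∈ siegelC, ∃ w ∈ siegelWit, w.1 = s ∧ w.2.1 = ixC := by
  decide +kernel

theorem siegelC_large : (siegelC.map nm).Nodup ∧ reps.length < siegelC.length := by
  decide +kernel

theorem facA_conj : ∀ s : Ix, s = facA.1 ∨ s = facA.2 →
    ∃ w ∈ siegelWit, w.1 = s ∧ w.2.1 = ixA := by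
  decide +kernel

theorem ixC_mem : nm ixC = (nm facA.1).mul (nm facA.2) := by
  decide +kernel

end CfsgLib.Small.SuzTwo
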