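import Cfsg.Agent.Lib.Small.SuzTwo.Data

/-!
Finite checks on the named elements of the orthogonal group of minus type in dimension six.
-/

set_option autoImplicit false
set_option maxRecDepth 100000
set_option maxHeartbeats 0

namespace CfsgLib.Small.SuzTwo

theorem fixed_pair : ∀ v w : Fin 64, bl v w = true →
    ((List.finRange 64).filter fun a => (sylM a).ap v == v && (sylM a).ap w == w).length
      ≤ 4 := by
  decide +kernel

end CfsgLib.Small.SuzTwo
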