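import Cfsg.Agent.Lib.Small.SuzTwo.Dset
import Cfsg.Agent.Lib.Small.SuzTwo.FactsPair

/-!
The ambient group has exactly two classes of involutions.
-/

set_option autoImplicit false

namespace CfsgLib.Small.SuzTwo

open Equiv

/-- An element of the conjugate of `Q` attached to some noncentral involution of `Q`. -/
def PNear {G : Type*} [Group G] (z : G) (Q : Subgroup G) (t : G) : Prop :=
  ∃ v, Nc z Q v ∧ InQ z Q v t

theorem A_ne_C {π : Perm (Fin 64)} (hπ : π ∈ O) : π * P ixA * π⁻¹ ≠ P ixC := by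
  intro h
  obtain ⟨v, hv⟩ := qC
  have e : (nm ixC).ap v = π ((nm ixA).ap (π⁻¹ v)) := by
    rw [← P_apply ixC, ← P_apply ixA, ← h]
    rfl
  have hv' : π (π⁻¹ v) = v := by simp
  rw [e] at hv
  nth_rw 1 [← hv'] at hv
  rw [← O_add hπ, O_q hπ, qA] at hv
  cases hv

theorem conj_sq_one {G : Type*} [Group G] {x : G} (c : G) (h : x * x = 1) :
    c * x * c⁻¹ * (c * x * c⁻¹) = 1 := by
  calc c * x * c⁻¹ * (c * x * c⁻¹) = c * (x * x) * c⁻¹ := by group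
    _ = 1 := by rw [h]; group

namespace Model

variable {G : Type*} [Group G] {z : G} {Q : Subgroup G} {f : G → Fin 64}
  {ρ : Cz z →* Perm (Fin 64)} (M : Model z Q f ρ)

include M

theorem near_conj {t c : G} (hc : c ∈ Cz z) (h : PNear z Q t) : PNear z Q (c * t * c⁻¹) := by
  obtain ⟨v, hv, hi⟩ := h
  exact ⟨c * v * c⁻¹, M.Nc_conj hc hv, InQ_conj c hi⟩

theorem near_mul_z {t : G} (h : PNear z Q t) : PNear z Q (t * z) := by
  obtain ⟨v, hv, hi⟩ := h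
  obtain ⟨g, hg⟩ := M.nc_conj_z hv
  refine ⟨v, hv, g, hg, ?_⟩
  have := mul_mem (M.InQ_any hi hg) (M.InQ_any (M.InQ_self_z hv) hg)
  rwa [show g⁻¹ * t * g * (g⁻¹ * z * g) = g⁻¹ * (t * z) * g by group] at this

theorem near_conj_z {t : G} (h2 : t * t = 1) (h1 : t ≠ 1) (h : PNear z Q t) :
    ∃ k : G, k * z * k⁻¹ = t := by
  obtain ⟨v, -, g, -, hQ⟩ := h
  by_cases hz : g⁻¹ * t * g = z
  · exact ⟨g, by rw [← hz]; group⟩
  have hnc : Nc z Q (g⁻¹ * t * g) := by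
    refine ⟨hQ, ?_, fun e => h1 ?_, hz⟩
    · calc g⁻¹ * t * g * (g⁻¹ * t * g) = g⁻¹ * (t * t) * g := by group
        _ = 1 := by rw [h2]; group
    · calc t = g * (g⁻¹ * t * g) * g⁻¹ := by group
        _ = 1 := by rw [e]; group
  obtain ⟨k, hk⟩ := M.nc_conj_z hnc
  exact ⟨g * k, by
    calc g * k * z * (g * k)⁻¹ = g * (k * z * k⁻¹) * g⁻¹ := by group
      _ = t := by rw [hk]; group⟩

theorem near_img {t : G} {π : Perm (Fin 64)} (ht : Img ρ t π) (hπ : π ≠ 1) (h2 : t * t = 1)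
    (h : PNear z Q t) : ∃ σ ∈ ρ.range, σ * π * σ⁻¹ = P ixA := by
  obtain ⟨v, hv, hi⟩ := h
  obtain ⟨u, g, W⟩ := M.exists_Swap
  obtain ⟨c, hc, hcv⟩ := M.nc_trans hv W.nc
  have hiu := InQ_conj c hi
  rw [hcv] at hiu
  have hQ := M.InQ_any hiu W.gz
  have hI := ht.conj (Img.mk' (ρ := ρ) hc)
  obtain ⟨y, -, -, -, σ, hσ, hσe⟩ := M.D_invol W hI
    (fun e => hπ (conj_eq_one_iff.1 e)) hQ (conj_sq_one c h2)
  refine ⟨σ * ρ ⟨c, hc⟩, mul_mem hσ ⟨⟨c, hc⟩, rfl⟩, ?_⟩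
  rw [← hσe]
  group

theorem not_near_C {t : G} (ht : Img ρ t (P ixC)) (h2 : t * t = 1) : ¬ PNear z Q t := by
  intro h
  obtain ⟨σ, hσ, he⟩ := M.near_img ht invC.P_ne h2 h
  refine A_ne_C (inv_mem (M.range_le hσ)) ?_
  rw [← he]
  group

theorem near_of_A {t : G} {π σ : Perm (Fin 64)} (ht : Img ρ t π) (hσ : σ ∈ ρ.range)
    (he : σ * π * σ⁻¹ = P ixA) (h2 : t * t = 1) : PNear z Q t := by
  obtain ⟨u, g, W⟩ := M.exists_Swap
  obtain ⟨x, hx, hxQ, hx2⟩ := M.exists_DA W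
  obtain ⟨s, hs⟩ := exists_img hσ
  have ht' : Img ρ (s * t * s⁻¹) (P ixA) := he ▸ ht.conj hs
  have hn : PNear z Q x := ⟨u, W.nc, g, W.gz, hxQ⟩
  obtain ⟨c, hc, hcx⟩ := M.coset_class invA hx hx2 ht' (conj_sq_one s h2)
  have hst : PNear z Q (s * t * s⁻¹) := by
    rcases hcx with h | h
    · rw [← h]; exact M.near_conj hc hn
    · have h' := M.near_mul_z (M.near_conj hc hn)
      rwa [h, mul_assoc, M.zz, mul_one] at h'
  have hback := M.near_conj (inv_mem hs.mem) hst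
  rwa [show s⁻¹ * (s * t * s⁻¹) * s⁻¹⁻¹ = t by group] at hback

theorem class_C {t t' : G} (ht : Img ρ t (P ixC)) (ht2 : t * t = 1) (ht' : Img ρ t' (P ixC))
    (ht'2 : t' * t' = 1) : ∃ c ∈ Cz z, c * t * c⁻¹ = t' := by
  obtain ⟨c, hc, h | h⟩ := M.coset_class invC ht ht2 ht' ht'2
  · exact ⟨c, hc, h⟩
  · obtain ⟨e, he, he'⟩ := M.neg_conj ht' ht'2
    refine ⟨e⁻¹ * c, mul_mem (inv_mem he) hc, ?_⟩
    calc e⁻¹ * c * t * (e⁻¹ * c)⁻¹ = e⁻¹ * (c * t * c⁻¹) * e := by group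
      _ = e⁻¹ * (e * t' * e⁻¹) * e := by rw [h, he']
      _ = t' := by group

theorem exists_C : ∃ t : G, Img ρ t (P ixC) ∧ t * t = 1 := by
  obtain ⟨u, g, W⟩ := M.exists_Swap
  obtain ⟨x, hx, -, hx2⟩ := M.exists_DC W
  obtain ⟨-, v, hv⟩ := ixC_fix_pt
  obtain ⟨q, hq, rfl⟩ := M.f_surj v
  have hy : Img ρ (x * q) (P ixC) := M.img_mul_q hx hq
  have hxq : x⁻¹ * q * x ∈ Q := by
    have := M.normal _ (inv_mem hx.mem) q hq
    rwa [inv_inv] at this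
  have hsq : x * q * (x * q) = u * (x⁻¹ * q * x * q) := by
    rw [← hx2]; group
  have hfx : f (x⁻¹ * q * x) = (nm ixC).ap (f q) := by
    have h := M.img_conj hx.inv hq
    rw [inv_inv, inv_eq_of_mul_eq_one_right invC.P_sq, P_apply] at h
    exact h
  have hf0 : f (x * q * (x * q)) = 0 := by
    rw [hsq, M.f_mul u W.nc.1 _ (mul_mem hxq hq), M.f_mul _ hxq q hq, hfx, W.fu,
      vadd_comm_all ((nm ixC).ap (f q)), hv, vadd_self]
  have hyQ : x * q * (x * q) ∈ Q := by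
    rw [hsq]; exact mul_mem W.nc.1 (mul_mem hxq hq)
  rcases (M.f_ker _ hyQ).1 hf0 with h1 | hz
  · exact ⟨_, hy, h1⟩
  obtain ⟨r, hr, hrf, hne⟩ := M.exists_not_inverted (t := x * q) invC
  have hrr : x * q * r * (x * q)⁻¹ = r⁻¹ * z := by
    have hfeq : f r⁻¹ = f (x * q * r * (x * q)⁻¹) := by
      rw [M.f_inv hr, M.img_conj hy hr, P_apply, hrf]
    rcases M.f_eq (inv_mem hr) (M.normal _ hy.mem r hr) hfeq with h | h
    · exact absurd h hne
    · exact h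
  refine ⟨x * q * r, M.img_mul_q hy hr, ?_⟩
  calc x * q * r * (x * q * r) = x * q * r * (x * q)⁻¹ * (x * q * (x * q)) * r := by group
    _ = r⁻¹ * (z * z) * r := by rw [hrr, hz]; group
    _ = 1 := by rw [M.zz]; group

theorem not_conj_z {t h : G} (ht : Img ρ t (P ixC)) (h2 : t * t = 1) : h * z * h⁻¹ ≠ t := by
  intro hh
  have htQ : t ∉ Q := M.not_mem_of_img ht invC.P_ne
  have hnear := M.not_near_C ht h2
  have hzh : h * z = t * h := by rw [← hh]; group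
  set t' := h⁻¹ * z * h with ht'def
  have ht'C : t' ∈ Cz z := mem_Cz.2 (by
    calc h⁻¹ * z * h * z = h⁻¹ * z * (h * z) := by group
      _ = h⁻¹ * (z * t) * h := by rw [hzh]; group
      _ = h⁻¹ * (t * z) * h := by rw [mem_Cz.1 ht.mem]
      _ = h⁻¹ * t * h * (h⁻¹ * z * h) := by group
      _ = z * (h⁻¹ * z * h) := by rw [← hh]; group)
  have ht'2 : t' * t' = 1 := by
    calc h⁻¹ * z * h * (h⁻¹ * z * h) = h⁻¹ * (z * z) * h := by group
      _ = 1 := by rw [M.zz]; group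
  have ht'z : t' ≠ z := fun e => htQ (by
    have : z = t := by
      calc z = h * t' * h⁻¹ := by rw [ht'def]; group
        _ = t := by rw [e, hh]
    exact this ▸ M.z_mem)
  have ht'1 : t' ≠ 1 := fun e => M.z_ne (by
    calc z = h * t' * h⁻¹ := by rw [ht'def]; group
      _ = 1 := by rw [e]; group)
  have ht'Q : t' ∉ Q := fun e => htQ (by
    have h1 := M.InQ_any (M.InQ_self_z ⟨e, ht'2, ht'1, ht'z⟩) (g := h⁻¹)
      (by rw [inv_inv])
    rwa [inv_inv, hh] at h1)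
  have hswap : h * t' * h⁻¹ = z := by rw [ht'def]; group
  -- no conjugate of `z` in `Q` is close to `t'`
  have hnear' : ¬ PNear z Q t' := by
    rintro ⟨v, hv, hi⟩
    have hi' := InQ_conj h hi
    rw [hswap] at hi'
    obtain ⟨k, hk⟩ := M.nc_conj_z hv
    have hw : ∃ k : G, k * z * k⁻¹ = h * v * h⁻¹ := ⟨h * k, by rw [← hk]; group⟩
    have hwz : h * v * h⁻¹ ≠ z := fun e => ht'Q (by
      have : v = t' := by
        calc v = h⁻¹ * (h * v * h⁻¹) * h := by group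
          _ = t' := by rw [e]
      exact this ▸ hv.1)
    have hw2 : h * v * h⁻¹ * (h * v * h⁻¹) = 1 := conj_sq_one h hv.2.1
    have hw1 : h * v * h⁻¹ ≠ 1 := fun e => hv.2.2.1 (conj_eq_one_iff.1 e)
    have hwQ : h * v * h⁻¹ ∈ Q := M.InQ_z.1 (M.InQ_symm hw M.zz M.z_ne hwz.symm hi')
    have hwnc : Nc z Q (h * v * h⁻¹) := ⟨hwQ, hw2, hw1, hwz⟩
    refine hnear ⟨_, hwnc, M.InQ_symm ⟨h, hh⟩ hw2 hw1 (fun e => htQ (e ▸ hwQ)) ⟨h, hh, ?_⟩⟩
    rw [show h⁻¹ * (h * v * h⁻¹) * h = v by group]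
    exact hv.1
  have htriv : ∀ q ∈ Q, h⁻¹ * q * h ∈ Q → q = 1 := by
    intro q hq hq'
    by_contra hq1
    have hq2 : q * q = 1 := by
      cases hb : qb (f q)
      · rw [M.sq_zp hq, hb, zp_false]
      · exfalso
        refine ht'Q ?_
        have hm := mul_mem hq' hq'
        rw [show h⁻¹ * q * h * (h⁻¹ * q * h) = h⁻¹ * (q * q) * h by group, M.sq_zp hq, hb,
          zp_true] at hm
        exact hm
    have hqz : q ≠ z := fun e => ht'Q (by rwa [e] at hq')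
    exact hnear ⟨q, ⟨hq, hq2, hq1, hqz⟩, M.InQ_symm ⟨h, hh⟩ hq2 hq1
      (fun e => htQ (e ▸ hq)) ⟨h, hh, hq'⟩⟩
  -- `t'` lies over a conjugate of `ixC`
  obtain ⟨π', hπ'⟩ : ∃ π, Img ρ t' π := ⟨_, Img.mk' ht'C⟩
  have hπ'1 : π' ≠ 1 := fun e => ht'Q (M.img_one_mem (e ▸ hπ'))
  have hπ'2 : π' * π' = 1 := (ht'2 ▸ hπ'.mul hπ').unique Img.one
  obtain ⟨σ, hσ, hσA | hσC⟩ := invol_conj M.range_le M.ρ_card hπ'.mem_range hπ'2 hπ'1
  · exact hnear' (M.near_of_A hπ' hσ hσA ht'2)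
  obtain ⟨s, hs⟩ := exists_img hσ
  obtain ⟨a0, b0, ha0, hb0, ha0t, hb0t, hbl⟩ :=
    M.cent_pair (hσC ▸ hπ'.conj hs) (conj_sq_one s ht'2)
  have hne0 : b0 * a0 ≠ a0 * b0 := fun e => by
    rw [(M.commute_iff ha0 hb0).1 e] at hbl
    cases hbl
  let S : Subgroup G := Q ⊓ Subgroup.centralizer ({t'} : Set G)
  have hS : ∀ x, x ∈ S ↔ x ∈ Q ∧ x * t' = t' * x := fun x =>
    and_congr Iff.rfl Subgroup.mem_centralizer_singleton_iff
  have pull : ∀ x ∈ Q, x * (s * t' * s⁻¹) = s * t' * s⁻¹ * x → s⁻¹ * x * s ∈ S := by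
    intro x hx hc
    refine (hS _).2 ⟨?_, ?_⟩
    · have := M.normal _ (inv_mem hs.mem) x hx
      rwa [inv_inv] at this
    · calc s⁻¹ * x * s * t' = s⁻¹ * (x * (s * t' * s⁻¹)) * s := by group
        _ = t' * (s⁻¹ * x * s) := by rw [hc]; group
  obtain ⟨a', ha', b', hb', hne⟩ : ∃ a ∈ S, ∃ b ∈ S, b * a ≠ a * b := by
    refine ⟨_, pull a0 ha0 ha0t, _, pull b0 hb0 hb0t, fun e => hne0 ?_⟩
    calc b0 * a0 = s * (s⁻¹ * b0 * s * (s⁻¹ * a0 * s)) * s⁻¹ := by group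
      _ = a0 * b0 := by rw [e]; group
  have hCS : ∀ x ∈ S, h * x * h⁻¹ ∈ Cz z := fun x hx => mem_Cz.2 (by
    rw [← hswap]
    calc h * x * h⁻¹ * (h * t' * h⁻¹) = h * (x * t') * h⁻¹ := by group
      _ = _ := by rw [((hS x).1 hx).2]; group)
  let φ : S →* Perm (Fin 64) := ρ.comp
    (((MulAut.conj h).toMonoidHom.comp S.subtype).codRestrict (Cz z) fun x => hCS x.1 x.2)
  have hφI : ∀ x : S, Img ρ (h * (x : G) * h⁻¹) (φ x) := fun x => ⟨hCS x.1 x.2, rfl⟩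
  obtain ⟨a, b, ha, hb, hat, hbt, hblab⟩ := M.cent_pair ht h2
  have hfix : ∀ (x : S) (y : G), y ∈ Q → y * t = t * y → φ x (f y) = f y := by
    intro x y hy hyt
    have hyC : h⁻¹ * y * h ∈ Cz z := mem_Cz.2 (by
      calc h⁻¹ * y * h * z = h⁻¹ * y * (h * z) := by group
        _ = h⁻¹ * (y * t) * h := by rw [hzh]; group
        _ = h⁻¹ * t * h * (h⁻¹ * y * h) := by rw [hyt]; group
        _ = z * (h⁻¹ * y * h) := by rw [← hh]; group)
    have hx := ((hS x.1).1 x.2).1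
    have k1 : h * (x : G) * h⁻¹ * y * (h * (x : G) * h⁻¹)⁻¹ * y⁻¹ ∈ Q :=
      mul_mem (M.normal _ (hφI x).mem y hy) (inv_mem hy)
    have k2 : h⁻¹ * (h * (x : G) * h⁻¹ * y * (h * (x : G) * h⁻¹)⁻¹ * y⁻¹) * h ∈ Q := by
      have := mul_mem hx (M.normal _ hyC _ (inv_mem hx))
      rwa [show (x : G) * (h⁻¹ * y * h * (x : G)⁻¹ * (h⁻¹ * y * h)⁻¹) =
        h⁻¹ * (h * (x : G) * h⁻¹ * y * (h * (x : G) * h⁻¹)⁻¹ * y⁻¹) * h by group] at this
    rw [← M.img_conj (hφI x) hy, mul_inv_eq_one.1 (htriv _ k1 k2)]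
  have hinj : Function.Injective φ := by
    intro x y hxy
    have hq : h * ((x : G)⁻¹ * (y : G)) * h⁻¹ ∈ Q := by
      have hI := (hφI x).inv.mul (hxy ▸ hφI y)
      rw [inv_mul_cancel] at hI
      rw [show h * ((x : G)⁻¹ * (y : G)) * h⁻¹ = (h * x * h⁻¹)⁻¹ * (h * y * h⁻¹) by group]
      exact M.img_one_mem hI
    have hq' : h⁻¹ * (h * ((x : G)⁻¹ * (y : G)) * h⁻¹) * h ∈ Q := by
      rw [show h⁻¹ * (h * ((x : G)⁻¹ * (y : G)) * h⁻¹) * h = (x : G)⁻¹ * y by group]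
      exact mul_mem (inv_mem ((hS x.1).1 x.2).1) ((hS y.1).1 y.2).1
    exact Subtype.ext (inv_mul_eq_one.1 (conj_eq_one_iff.1 (htriv _ hq hq')))
  have hBR : φ.range ≤ ρ.range := by
    rintro _ ⟨x, rfl⟩
    exact (hφI x).mem_range
  have hSp : IsPGroup 2 S := M.isPGroup.to_le inf_le_left
  obtain ⟨c, hc, hcT⟩ := conj_into_TS M.range_le M.ρ_card hBR
    (hSp.of_surjective φ.rangeRestrict φ.rangeRestrict_surjective)
  have hcO := M.range_le hc
  have key : ∀ x : S, ∃ j, P (syl j) = c * φ x * c⁻¹ := fun x => mem_TS.1 (hcT _ ⟨x, rfl⟩)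
  choose j hj using key
  have hmem : ∀ x : S, j x ∈ ((List.finRange 64).filter fun i =>
      (sylM i).ap (c (f a)) == c (f a) && (sylM i).ap (c (f b)) == c (f b)).toFinset := by
    intro x
    have e : ∀ y, y ∈ Q → y * t = t * y → (sylM (j x)).ap (c (f y)) = c (f y) := by
      intro y hy hyt
      rw [← P_syl_apply, hj]
      show c (φ x (c⁻¹ (c (f y)))) = c (f y)
      rw [show c⁻¹ (c (f y)) = f y by simp, hfix x y hy hyt]
    simp [e a ha hat, e b hb hbt]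
  have hjinj : Function.Injective j := fun x y hxy => hinj (by
    have := hj x
    rw [hxy, hj y, mul_left_inj, mul_right_inj] at this
    exact this.symm)
  have hzS : z ∈ S := (hS z).2 ⟨M.z_mem, (mem_Cz.1 ht'C).symm⟩
  let v : Fin 5 → S := ![1, ⟨z, hzS⟩, ⟨a', ha'⟩, ⟨a', ha'⟩ * ⟨z, hzS⟩, ⟨b', hb'⟩]
  have hzc : ∀ x ∈ S, x * z = z * x := fun x hx => mem_Cz.1 (M.le ((hS x).1 hx).1)
  have na1 : a' ≠ 1 := fun e => hne (by rw [e, mul_one, one_mul])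
  have naz : a' ≠ z := fun e => hne (by rw [e]; exact hzc b' hb')
  have nb1 : b' ≠ 1 := fun e => hne (by rw [e, mul_one, one_mul])
  have nbz : b' ≠ z := fun e => hne (by rw [e]; exact (hzc a' ha').symm)
  have nba : b' ≠ a' := fun e => hne (by rw [e])
  have nbaz : b' ≠ a' * z := fun e => hne (by rw [e, mul_assoc, hzc a' ha'])
  have nz1 := M.z_ne
  have naz1 : a' * z ≠ 1 := fun e => naz ((mul_eq_one_iff_eq_inv.1 e).trans M.z_inv)
  have hvinj : Function.Injective v := by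
    intro i k e
    have e' := congrArg Subtype.val e
    fin_cases i <;> fin_cases k <;> first
      | rfl
      | simp [v, nz1, nz1.symm, na1, na1.symm, naz, naz.symm, nb1, nb1.symm, nbz, nbz.symm, nba,
          nba.symm, nbaz, nbaz.symm, naz1, naz1.symm] at e' 
  have h5 := Finset.card_le_card (s := Finset.univ.image (j ∘ v))
    fun x hx => by
      obtain ⟨i, -, rfl⟩ := Finset.mem_image.1 hx
      exact hmem (v i)
  rw [Finset.card_image_of_injective _ (hjinj.comp hvinj), Finset.card_univ, Fintype.card_fin]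
    at h5
  have h4 := h5.trans ((List.toFinset_card_le _).trans
    (fixed_pair (c (f a)) (c (f b)) (by rw [O_bl hcO]; exact hblab)))
  omega

/-- There are exactly two classes of involutions. -/
theorem two_classes [Finite G] : ∃ a b : G, orderOf a = 2 ∧ orderOf b = 2 ∧ ¬ IsConj a b ∧
    ∀ x : G, orderOf x = 2 → IsConj x a ∨ IsConj x b := by
  obtain ⟨t, ht, ht2⟩ := M.exists_C
  have ht1 : t ≠ 1 := fun e => M.not_mem_of_img ht invC.P_ne (e ▸ one_mem Q)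
  refine ⟨z, t, M.ord, orderOf_eq_prime (by rw [sq, ht2]) ht1, fun hc => ?_, fun x hx => ?_⟩
  · obtain ⟨k, hk⟩ := isConj_iff.1 hc
    exact M.not_conj_z ht ht2 hk
  have hx2 : x * x = 1 := by
    have := pow_orderOf_eq_one x
    rwa [hx, sq] at this
  have hx1 : x ≠ 1 := fun e => by
    rw [e, orderOf_one] at hx
    omega
  obtain ⟨g, hg⟩ := M.into_Cz hx2
  have hxy : IsConj x (g * x * g⁻¹) := isConj_iff.2 ⟨g, rfl⟩
  set y := g * x * g⁻¹ with hy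
  have hy2 : y * y = 1 := conj_sq_one g hx2
  have hy1 : y ≠ 1 := fun e => hx1 (conj_eq_one_iff.1 e)
  by_cases hyQ : y ∈ Q
  · refine Or.inl (hxy.trans ?_)
    by_cases hyz : y = z
    · rw [hyz]
    · obtain ⟨k, hk⟩ := M.nc_conj_z ⟨hyQ, hy2, hy1, hyz⟩
      exact (isConj_iff.2 ⟨k, hk⟩).symm
  obtain ⟨π, hπ⟩ : ∃ π, Img ρ y π := ⟨_, Img.mk' hg⟩
  have hπ1 : π ≠ 1 := fun e => hyQ (M.img_one_mem (e ▸ hπ))
  have hπ2 : π * π = 1 := (hy2 ▸ hπ.mul hπ).unique Img.one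
  obtain ⟨σ, hσ, hA | hC⟩ := invol_conj M.range_le M.ρ_card hπ.mem_range hπ2 hπ1
  · obtain ⟨k, hk⟩ := M.near_conj_z hy2 hy1 (M.near_of_A hπ hσ hA hy2)
    exact Or.inl (hxy.trans (isConj_iff.2 ⟨k, hk⟩).symm)
  · obtain ⟨s, hs⟩ := exists_img hσ
    obtain ⟨c, -, hc⟩ := M.class_C ht ht2 (hC ▸ hπ.conj hs) (conj_sq_one s hy2)
    exact Or.inr (hxy.trans ((isConj_iff.2 ⟨s, rfl⟩).trans (isConj_iff.2 ⟨c, hc⟩).symm))

end Model

end CfsgLib.Small.SuzTwo
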