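import Cfsg.Agent.Lib.Small.SuzTwo.Main
import Cfsg.Agent.Lib.ThreeTransp.OutExtraspecial
import Cfsg.Agent.Lib.Components.FStar
import Cfsg.Agent.Lib.Classical.PSpFourThree
import Cfsg.Agent.Lib.Classical.OrthStd

/-!
An involution centraliser of Suzuki type gives coordinates.
-/

set_option autoImplicit false
set_option linter.style.haveILetI false

namespace CfsgLib.Small.SuzTwo

open Equiv CfsgLib.ThreeTransp CfsgLib.ThreeTransp.TwistF2

/-- Vectors of the cocycle model. -/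
abbrev Wv : Type := CfsgLib.LocalEven.Pauli.W 3

/-- The bit string of six coordinates. -/
def enc6 (a b c d e g : ZMod 2) : Fin 64 :=
  vadd (vadd (vadd (sel (decide (a = 1)) 1) (sel (decide (b = 1)) 2))
      (vadd (sel (decide (c = 1)) 4) (sel (decide (d = 1)) 8)))
    (vadd (sel (decide (e = 1)) 16) (sel (decide (g = 1)) 32))

/-- The coordinate map. -/
def enc (v : Wv) : Fin 64 :=
  enc6 (v (.inl 0)) (v (.inl 1)) (v (.inl 2)) (v (.inr 0)) (v (.inr 1)) (v (.inr 2))

theorem enc6_add : ∀ a b c d e g a' b' c' d' e' g' : ZMod 2,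
    enc6 (a + a') (b + b') (c + c') (d + d') (e + e') (g + g') =
      vadd (enc6 a b c d e g) (enc6 a' b' c' d' e' g') := by
  decide +kernel

theorem enc6_inj : ∀ a b c d e g a' b' c' d' e' g' : ZMod 2,
    enc6 a b c d e g = enc6 a' b' c' d' e' g' →
      a = a' ∧ b = b' ∧ c = c' ∧ d = d' ∧ e = e' ∧ g = g' := by
  decide +kernel

theorem enc6_qb : ∀ a b c d e g : ZMod 2,
    qb (enc6 a b c d e g) = decide (d * a + e * b + g * c + 1 * (a * a + d * d) = 1) := by
  decide +kernel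

theorem enc6_surj : ∀ x : Fin 64, ∃ a b c d e g : ZMod 2, enc6 a b c d e g = x := by
  decide +kernel

theorem enc_add (v w : Wv) : enc (v + w) = vadd (enc v) (enc w) := enc6_add _ _ _ _ _ _ _ _ _ _ _ _

theorem enc_inj : Function.Injective enc := by
  intro v w h
  obtain ⟨h1, h2, h3, h4, h5, h6⟩ := enc6_inj _ _ _ _ _ _ _ _ _ _ _ _ h
  funext i
  rcases i with i | i <;> fin_cases i <;> assumption

theorem enc_surj (x : Fin 64) : ∃ v : Wv, enc v = x := by
  obtain ⟨a, b, c, d, e, g, h⟩ := enc6_surj x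
  exact ⟨Sum.elim ![a, b, c] ![d, e, g], h⟩

theorem enc_zero : enc 0 = 0 := by decide +kernel

theorem enc_qb (v : Wv) : qb (enc v) = decide (beta 2 1 v v = 1) := by
  rw [enc, enc6_qb, beta_apply, CfsgLib.LocalEven.Pauli.coc, Fin.sum_univ_three]

/-- The coordinates as an equivalence. -/
noncomputable def encEquiv : Wv ≃ Fin 64 := Equiv.ofBijective enc ⟨enc_inj, enc_surj⟩

theorem card_omega_suz :
    Nat.card (Cfsg.Omega (ZMod 2) (Cfsg.quadFormMinus 2 (ZMod 2) 1 1)) = 25920 := by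
  rw [← CfsgLib.Geometry.coe_matQuad_minus]
  refine Eq.trans ?_ CfsgLib.Classical.ESix.card_omega_two
  let e := CfsgLib.Geometry.isomEquiv (CfsgLib.Geometry.matQuad
    (CfsgLib.Geometry.minusMat 2 (ZMod 2) (1 : ZMod 2) 1))
  have h : (commutator _).map e.toMonoidHom = commutator _ := by
    rw [commutator_def, Subgroup.map_commutator, Subgroup.map_top_of_surjective _ e.surjective,
      commutator_def]
  rw [← Subgroup.card_map_of_injective (f := e.toMonoidHom) e.injective, h]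
  rfl

section

variable {G : Type*} [Group G] [Finite G] {z : G} {Q : Subgroup (Cz z)} [Q.Normal]

omit [Finite G] in
theorem mem_of_centralize (hF : Cfsg.generalizedFittingSubgroup (Cz z) = Q) [Finite (Cz z)]
    {c : Cz z} (h : ∀ q ∈ Q, q * c = c * q) : c ∈ Q := by
  rw [← hF]
  refine CfsgLib.Components.centralizer_fstar_le (Subgroup.mem_centralizer_iff.2 ?_)
  rw [hF]
  exact fun q hq => h q hq

omit [Finite G] in
theorem mem_of_inner (hF : Cfsg.generalizedFittingSubgroup (Cz z) = Q) [Finite (Cz z)] {c : Cz z}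
    (h : MulAut.conjNormal (H := Q) c ∈ Cfsg.Inn Q) : c ∈ Q := by
  obtain ⟨a, ha⟩ := h
  have hc : (a : Cz z)⁻¹ * c ∈ Q := mem_of_centralize hF fun q hq => by
    have h1 : (a : Cz z) * q * (a : Cz z)⁻¹ = c * q * c⁻¹ := by
      have h2 := congrArg (fun φ : MulAut Q => ((φ ⟨q, hq⟩ : Q) : Cz z)) ha
      simpa [MulAut.conjNormal_apply] using h2
    calc q * ((a : Cz z)⁻¹ * c) = (a : Cz z)⁻¹ * ((a : Cz z) * q * (a : Cz z)⁻¹) * c := by group
      _ = (a : Cz z)⁻¹ * c * q := by rw [h1]; group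
  simpa using mul_mem a.2 hc

variable (hF : Cfsg.generalizedFittingSubgroup (Cz z) = Q) (hQ : Cfsg.IsExtraspecial 2 Q)
  (hcard : Nat.card Q = 2 ^ 7)
  (e : Cz z ⧸ Q ≃* Cfsg.Omega (ZMod 2) (Cfsg.quadFormMinus 2 (ZMod 2) 1 1))

include hF hQ hcard e in
theorem not_hasMax : ¬ CfsgLib.PGroups.HasMaxElem Q 3 := by
  intro h
  haveI : Fact (Nat.Prime 2) := ⟨Nat.prime_two⟩
  obtain ⟨eo⟩ := (OutExtra.out_extraspecial hQ 3 (by omega) (by rw [hcard])).1
    ((OutExtra.hasMax_iff hQ.1.1 3).1 h)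
  let Φ : Cz z →* Cfsg.Out Q :=
    (QuotientGroup.mk' (Cfsg.Inn Q)).comp (MulAut.conjNormal (H := Q))
  have hker : Φ.ker = Q := by
    refine le_antisymm (fun c hc => mem_of_inner hF ?_) fun c hc => ?_
    · exact (QuotientGroup.eq_one_iff _).1 (MonoidHom.mem_ker.1 hc)
    · refine MonoidHom.mem_ker.2 ((QuotientGroup.eq_one_iff _).2 ⟨⟨c, hc⟩, ?_⟩)
      ext q
      simp [MulAut.conjNormal_apply]
  have h1 : Nat.card Φ.range = 25920 := by
    rw [← Nat.card_congr (QuotientGroup.quotientKerEquivRange Φ).toEquiv,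
      Nat.card_congr (QuotientGroup.quotientMulEquivOfEq hker).toEquiv,
      Nat.card_congr e.toEquiv, card_omega_suz]
  have h2 := Subgroup.card_subgroup_dvd_card Φ.range
  rw [h1, Nat.card_congr eo.toEquiv, show (3 : ℕ) = 2 + 1 from rfl,
    CfsgLib.Classical.card_isometry_plus 2, Nat.card_zmod] at h2
  simp [Finset.prod_range_succ] at h2

include hF hQ hcard e in
theorem exists_model (hz : orderOf z = 2)
    (hnwc : ∃ g : G, (∃ hq : g * z * g⁻¹ ∈ Cz z, (⟨g * z * g⁻¹, hq⟩ : Cz z) ∈ Q) ∧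
      g * z * g⁻¹ ≠ z) :
    ∃ f : G → Fin 64, ∃ ρ : Cz z →* Perm (Fin 64), Model z (Q.map (Cz z).subtype) f ρ := by
  classical
  haveI : Fact (Nat.Prime 2) := ⟨Nat.prime_two⟩
  obtain ⟨E⟩ := OutExtra.iso_model hQ (m := 2) (by rw [hcard]) 1
    (iff_of_false (not_hasMax hF hQ hcard e) one_ne_zero)
  have hβ : Nondeg (beta 2 1) := beta_nondeg 1
  -- the central involution
  have hzC : z ∈ Cz z := mem_Cz.2 rfl
  have hzcen : ∀ c : Cz z, c * ⟨z, hzC⟩ = ⟨z, hzC⟩ * c := fun c => Subtype.ext (mem_Cz.1 c.2)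
  have hzQ : (⟨z, hzC⟩ : Cz z) ∈ Q := mem_of_centralize hF fun q _ => hzcen q
  have hz1 : z ≠ 1 := fun h => by rw [h, orderOf_one] at hz; omega
  have hEz : E ⟨⟨z, hzC⟩, hzQ⟩ = ⟨0, 1⟩ := by
    have hv : (E ⟨⟨z, hzC⟩, hzQ⟩).v = 0 := (mem_center hβ _).1 (Subgroup.mem_center_iff.2 fun t => by
      obtain ⟨q, rfl⟩ := E.surjective t
      rw [← map_mul, ← map_mul]
      exact congrArg E (Subtype.ext (hzcen q)))
    refine Tw.ext hv (z2_ne _ fun hs => hz1 ?_)
    have h1 : E ⟨⟨z, hzC⟩, hzQ⟩ = E 1 := by rw [map_one]; exact Tw.ext hv hs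
    exact congrArg (fun q : Q => ((q : Cz z) : G)) (E.injective h1)
  let Qg : Subgroup G := Q.map (Cz z).subtype
  have hmemQ : ∀ x ∈ Qg, ∃ q : Q, ((q : Cz z) : G) = x := by
    rintro _ ⟨y, hy, rfl⟩
    exact ⟨⟨y, hy⟩, rfl⟩
  have hQmem : ∀ q : Q, ((q : Cz z) : G) ∈ Qg := fun q => ⟨q, q.2, rfl⟩
  let f : G → Fin 64 := fun x =>
    if h : ∃ q : Q, ((q : Cz z) : G) = x then enc (E h.choose).v else 0
  have hf : ∀ q : Q, f ((q : Cz z) : G) = enc (E q).v := by
    intro q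
    have h : ∃ r : Q, ((r : Cz z) : G) = ((q : Cz z) : G) := ⟨q, rfl⟩
    show dite _ _ _ = _
    rw [dif_pos h, show h.choose = q from Subtype.ext (Subtype.ext h.choose_spec)]
  -- the action
  let ψ : Cz z →* MulAut (Tw (beta 2 1)) :=
    (MulAut.congr E).toMonoidHom.comp (MulAut.conjNormal (H := Q))
  have hψ : ∀ (c : Cz z) (q : Q), ψ c (E q) = E (MulAut.conjNormal c q) := fun c q => by
    simp [ψ]
  let L : Cz z → Fin 64 → Fin 64 := fun c x =>
    enc (OutExtra.toLin hβ (ψ c) (encEquiv.symm x))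
  have hLf : ∀ (c : Cz z) (q : Q), L c (enc (E q).v) = enc (E (MulAut.conjNormal c q)).v := by
    intro c q
    show enc (OutExtra.toLin hβ (ψ c) (encEquiv.symm (encEquiv (E q).v))) = _
    rw [Equiv.symm_apply_apply, OutExtra.toLin_apply, ← OutExtra.aut_v hβ, hψ]
  have hL1 : ∀ x, L 1 x = x := fun x => by
    show enc (OutExtra.toLin hβ (ψ 1) (encEquiv.symm x)) = x
    rw [map_one, OutExtra.toLin_one]
    exact encEquiv.apply_symm_apply x
  have hLmul : ∀ c d x, L (c * d) x = L c (L d x) := fun c d x => by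
    show enc (OutExtra.toLin hβ (ψ (c * d)) _) =
      enc (OutExtra.toLin hβ (ψ c) (encEquiv.symm (encEquiv _)))
    rw [Equiv.symm_apply_apply, map_mul, OutExtra.toLin_mul]
    rfl
  let ρ : Cz z →* Perm (Fin 64) := MonoidHom.mk'
    (fun c => ⟨L c, L c⁻¹, fun x => by rw [← hLmul, inv_mul_cancel, hL1],
      fun x => by rw [← hLmul, mul_inv_cancel, hL1]⟩)
    (fun c d => Equiv.ext fun x => hLmul c d x)
  have hρker : ρ.ker = Q := by
    refine le_antisymm (fun c hc => mem_of_inner hF ?_) fun c hc => ?_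
    · obtain ⟨a, ha⟩ := OutExtra.inner_of_trivial hβ (ψ c) (LinearMap.ext fun v => by
        have h := congrArg (fun p : Perm (Fin 64) => p (encEquiv v)) (MonoidHom.mem_ker.1 hc)
        have h' : enc (OutExtra.toLin hβ (ψ c) (encEquiv.symm (encEquiv v))) = enc v := h
        rw [Equiv.symm_apply_apply] at h'
        exact enc_inj h')
      refine ⟨E.symm a, MulEquiv.ext fun q => E.injective ?_⟩
      rw [← hψ, ← ha]
      simp
    · refine MonoidHom.mem_ker.2 (Equiv.ext fun x => ?_)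
      obtain ⟨v, rfl⟩ := encEquiv.surjective x
      obtain ⟨q, hq⟩ := E.surjective ⟨v, 0⟩
      have hv : v = (E q).v := by rw [hq]
      show L c (enc v) = enc v
      rw [hv, hLf]
      congr 1
      have : MulAut.conjNormal c q = (⟨c, hc⟩ : Q) * q * (⟨c, hc⟩ : Q)⁻¹ :=
        Subtype.ext (by simp [MulAut.conjNormal_apply])
      rw [this, map_mul, map_mul, map_inv, mul_v, mul_v]
      show (E ⟨c, hc⟩).v + (E q).v + (E ⟨c, hc⟩).v = (E q).v
      rw [add_comm ((E ⟨c, hc⟩).v), add_assoc, vec_two, add_zero]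
  refine ⟨f, ρ, ⟨hz, ?_, ?_, ?_, ⟨_, hzQ, rfl⟩, ?_, ?_, ?_, ?_, ?_, ?_, ?_, ?_⟩⟩
  · exact Subgroup.map_subtype_le Q
  · intro c hc q hq
    obtain ⟨r, rfl⟩ := hmemQ q hq
    exact ⟨_, Subgroup.Normal.conj_mem inferInstance (r : Cz z) r.2 ⟨c, hc⟩, rfl⟩
  · rw [Subgroup.card_map_of_injective (Cz z).subtype_injective, hcard]
    norm_num
  · intro q hq r hr
    obtain ⟨a, rfl⟩ := hmemQ q hq
    obtain ⟨b, rfl⟩ := hmemQ r hr
    rw [hf, hf, ← enc_add, ← mul_v, ← map_mul, ← hf]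
    rfl
  · intro q hq
    obtain ⟨a, rfl⟩ := hmemQ q hq
    rw [hf]
    constructor
    · intro h
      rw [← enc_zero] at h
      have hv := enc_inj h
      rcases z2_cases (E a).s with hs | hs
      · left
        have h1 : E a = E 1 := by rw [map_one]; exact Tw.ext hv hs
        rw [E.injective h1]; rfl
      · right
        have h1 : E a = E ⟨⟨z, hzC⟩, hzQ⟩ := by rw [hEz]; exact Tw.ext hv hs
        rw [E.injective h1]
    · rintro (h | h)
      · rw [show a = 1 from Subtype.ext (Subtype.ext h), map_one]; exact enc_zero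
      · rw [show a = ⟨⟨z, hzC⟩, hzQ⟩ from Subtype.ext (Subtype.ext h), hEz]; exact enc_zero
  · intro v
    obtain ⟨w, rfl⟩ := enc_surj v
    obtain ⟨q, hq⟩ := E.surjective ⟨w, 0⟩
    exact ⟨_, hQmem q, by rw [hf, hq]⟩
  · intro q hq
    obtain ⟨a, rfl⟩ := hmemQ q hq
    rw [hf, enc_qb]
    have h : E (a * a) = ⟨0, beta 2 1 (E a).v (E a).v⟩ := by rw [map_mul, ← sq, sq_eq]
    rcases z2_cases (beta 2 1 (E a).v (E a).v) with hb | hb
    · rw [hb] at h ⊢
      have h1 : a * a = 1 := E.injective (by rw [h, map_one]; rfl)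
      simpa using congrArg (fun q : Q => ((q : Cz z) : G)) h1
    · rw [hb] at h ⊢
      have h1 : a * a = ⟨⟨z, hzC⟩, hzQ⟩ := E.injective (by rw [h, hEz])
      simpa using congrArg (fun q : Q => ((q : Cz z) : G)) h1
  · intro c q hq
    obtain ⟨a, rfl⟩ := hmemQ q hq
    rw [hf]
    show L c _ = _
    rw [hLf, ← hf]
    exact congrArg f (by simp [MulAut.conjNormal_apply])
  · intro c
    rw [← MonoidHom.mem_ker, hρker]
    exact (Subgroup.mem_map_iff_mem (Cz z).subtype_injective).symm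
  · rw [← Nat.card_congr (QuotientGroup.quotientKerEquivRange ρ).toEquiv,
      Nat.card_congr (QuotientGroup.quotientMulEquivOfEq hρker).toEquiv,
      Nat.card_congr e.toEquiv, card_omega_suz]
  · obtain ⟨g, ⟨hq, hqQ⟩, hne⟩ := hnwc
    exact ⟨g, ⟨_, hqQ, rfl⟩, hne⟩

end

end CfsgLib.Small.SuzTwo
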