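import Cfsg.Agent.Lib.Small.SuzTwo.Symm

/-!
The involutions in a coset of the extraspecial subgroup.
-/

set_option autoImplicit false

namespace CfsgLib.Small.SuzTwo

open Equiv

namespace InvolData

variable {τ d : Ix} {L : List (Fin 64)} (D : InvolData τ d L)

include D

theorem covers {c v : Fin 64} (hc : InFix τ c) (hv : InFix τ v) (S T : Fin 64 → Prop)
    (hS0 : S 0) (hSL : ∀ w l, l ∈ L → S w → S (vadd w l))
    (hSd : ∀ w, S w → S (vadd c ((nm d).ap w)))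
    (hT0 : T 0) (hTL : ∀ w l, l ∈ L → T w → T (vadd w l))
    (hTd : ∀ w, T w → T (vadd c ((nm d).ap w))) (hTv : T v) :
    S v ∨ ∀ u, InFix τ u → T u := by
  have mv : ∀ (U : Fin 64 → Prop), (∀ w l, l ∈ L → U w → U (vadd w l)) →
      ∀ u b, vadd u b ∈ L → U b → U u := by
    intro U hU u b h hb
    have := hU b _ h hb
    rwa [vadd_comm_all u b, vadd_cancel] at this
  have hc0 : ∀ (U : Fin 64 → Prop), U 0 → (∀ w, U w → U (vadd c ((nm d).ap w))) → U c := by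
    intro U h0 hd
    have := hd 0 h0
    rwa [ap_zero, vadd_zero] at this
  rcases D.d_orbit c v hc hv with h | h | h | h
  · exact Or.inl (by have := hSL 0 v h hS0; rwa [zero_vadd] at this)
  · exact Or.inl (mv S hSL v c h (hc0 S hS0 hSd))
  · exact Or.inl (mv S hSL v _ h (hSd _ (hc0 S hS0 hSd)))
  · refine Or.inr fun u hu => ?_
    rcases h u hu with h | h | h | h | h | h
    · have := hTL 0 u h hT0
      rwa [zero_vadd] at this
    · exact mv T hTL u c h (hc0 T hT0 hTd)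
    · exact mv T hTL u _ h (hTd _ (hc0 T hT0 hTd))
    · exact mv T hTL u v h hTv
    · exact mv T hTL u _ h (hTd _ hTv)
    · exact mv T hTL u _ h (hTd _ (hTd _ hTv))

end InvolData

namespace Model

variable {G : Type*} [Group G] {z : G} {Q : Subgroup G} {f : G → Fin 64}
  {ρ : Cz z →* Perm (Fin 64)} (M : Model z Q f ρ)

include M

theorem inv_of_invol {t : G} (ht : t * t = 1) : t⁻¹ = t := inv_eq_of_mul_eq_one_right ht

theorem inverted_iff {t q : G} (ht : t * t = 1) :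
    (t * q) * (t * q) = 1 ↔ t * q * t⁻¹ = q⁻¹ := by
  rw [M.inv_of_invol ht, eq_inv_iff_mul_eq_one, show t * q * (t * q) = t * q * t * q by group]

theorem inverted_fix {t q : G} {τ : Ix} (ht : Img ρ t (P τ)) (hq : q ∈ Q)
    (h : t * q * t⁻¹ = q⁻¹) : InFix τ (f q) := by
  rw [InFix, ← P_apply, ← M.img_conj ht hq, h, M.f_inv hq]

/-- Not every fixed element is inverted. -/
theorem exists_not_inverted {t : G} {τ d : Ix} {L : List (Fin 64)} (D : InvolData τ d L) :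
    ∃ r ∈ Q, InFix τ (f r) ∧ t * r * t⁻¹ ≠ r⁻¹ := by
  obtain ⟨v, w, hv, hw, hb⟩ := D.fix_pair
  obtain ⟨q, hq, rfl⟩ := M.f_surj v
  obtain ⟨r, hr, rfl⟩ := M.f_surj w
  by_contra hne
  push Not at hne
  have hqr : InFix τ (f (q * r)) := by rw [InFix, M.f_mul q hq r hr, ap_add, hv, hw]
  have h := hne (q * r) (mul_mem hq hr) hqr
  have h' : t * (q * r) * t⁻¹ = q⁻¹ * r⁻¹ := by
    rw [← hne q hq hv, ← hne r hr hw]
    group
  rw [h', mul_inv_rev] at h
  have hcomm : r * q = q * r := by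
    have h2 := congrArg (fun x => x⁻¹) h
    simpa only [mul_inv_rev, inv_inv] using h2
  rw [(M.commute_iff hq hr).1 hcomm] at hb
  cases hb

section Steps

variable {t : G} {τ d : Ix} {L : List (Fin 64)} (D : InvolData τ d L) (ht : Img ρ t (P τ))
  (ht2 : t * t = 1) {Φ : G → Prop} (hc : ∀ c ∈ Cz z, ∀ x, Φ x → Φ (c * x * c⁻¹))
  (hz : ∀ x, Φ x → Φ (x * z))

include hz in
theorem same_f {q q' : G} (hq : q ∈ Q) (hq' : q' ∈ Q) (he : f q = f q') (h : Φ (t * q)) :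
    Φ (t * q') := by
  rcases M.f_eq hq hq' he with rfl | rfl
  · exact h
  · rw [← mul_assoc]
    exact hz _ h

include D ht ht2 hc hz in
theorem step_L {w l : Fin 64} (hl : l ∈ L) (hS : ∀ q ∈ Q, f q = w → Φ (t * q)) :
    ∀ q ∈ Q, f q = vadd w l → Φ (t * q) := by
  intro q' hq' he
  obtain ⟨v, rfl⟩ := D.L_mem l hl
  obtain ⟨r, hr, rfl⟩ := M.f_surj v
  obtain ⟨q, hq, rfl⟩ := M.f_surj w
  have h1 := hc r (M.le hr) _ (hS q hq rfl)
  have htr : t * r * t⁻¹ ∈ Q := M.normal t ht.mem r hr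
  have hrw : r * (t * q) * r⁻¹ = t * (t * r * t⁻¹ * q * r⁻¹) := by
    calc r * (t * q) * r⁻¹ = (t * t) * r * (t * q) * r⁻¹ := by rw [ht2, one_mul]
      _ = t * (t * r * t * q * r⁻¹) := by group
      _ = _ := by rw [M.inv_of_invol ht2]
  rw [hrw] at h1
  refine M.same_f hz (mul_mem (mul_mem htr hq) (inv_mem hr)) hq' ?_ h1
  rw [he, M.f_mul _ (mul_mem htr hq) _ (inv_mem hr), M.f_mul _ htr q hq, M.f_inv hr,
    M.img_conj ht hr, P_apply, vadd_comm_all _ (f q), vadd_assoc_all, vadd_comm_all _ (f r)]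

include hc hz in
theorem step_d {e c0 : G} {w : Fin 64} (he : Img ρ e (P d)) (hc0 : c0 ∈ Q)
    (hec : e * t * e⁻¹ = t * c0) (hS : ∀ q ∈ Q, f q = w → Φ (t * q)) :
    ∀ q ∈ Q, f q = vadd (f c0) ((nm d).ap w) → Φ (t * q) := by
  intro q' hq' hf
  obtain ⟨q, hq, rfl⟩ := M.f_surj w
  have h1 := hc e he.mem _ (hS q hq rfl)
  have heq : e * q * e⁻¹ ∈ Q := M.normal e he.mem q hq
  rw [show e * (t * q) * e⁻¹ = e * t * e⁻¹ * (e * q * e⁻¹) by group, hec, mul_assoc] at h1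
  refine M.same_f hz (mul_mem hc0 heq) hq' ?_ h1
  rw [hf, M.f_mul c0 hc0 _ heq, M.img_conj he hq, P_apply]

end Steps

/-- Two involutions over the same element are conjugate up to `z`. -/
theorem coset_class {t t' : G} {τ d : Ix} {L : List (Fin 64)} (D : InvolData τ d L)
    (ht : Img ρ t (P τ)) (ht2 : t * t = 1) (ht' : Img ρ t' (P τ)) (ht'2 : t' * t' = 1) :
    ∃ c ∈ Cz z, c * t * c⁻¹ = t' ∨ c * t * c⁻¹ = t' * z := by
  obtain ⟨q, hq, rfl⟩ := M.img_same ht ht'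
  obtain ⟨e, he⟩ := M.lift d
  have hPd : P d * P τ * (P d)⁻¹ = P τ := by
    rw [mul_inv_eq_iff_eq_mul]
    exact Equiv.ext fun v => by simp only [Perm.mul_apply, P_apply, D.d_comm]
  have hImg : Img ρ (e * t * e⁻¹) (P τ) := hPd ▸ ht.conj he
  obtain ⟨c0, hc0, hec⟩ := M.img_same ht hImg
  have h20 : (t * c0) * (t * c0) = 1 := by
    rw [← hec]
    calc e * t * e⁻¹ * (e * t * e⁻¹) = e * (t * t) * e⁻¹ := by group
      _ = 1 := by rw [ht2]; group
  let Φ : G → Prop := fun x => ∃ c ∈ Cz z, c * t * c⁻¹ = x ∨ c * t * c⁻¹ = x * z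
  let Ψ : G → Prop := fun x => x ∈ Cz z ∧ x * x = 1
  have Φc : ∀ c ∈ Cz z, ∀ x, Φ x → Φ (c * x * c⁻¹) := by
    rintro c hc x ⟨b, hb, h⟩
    refine ⟨c * b, mul_mem hc hb, h.imp (fun h => ?_) (fun h => ?_)⟩
    · rw [← h]; group
    · calc c * b * t * (c * b)⁻¹ = c * (b * t * b⁻¹) * c⁻¹ := by group
        _ = c * x * (z * c⁻¹) := by rw [h]; group
        _ = c * x * (c⁻¹ * z) := by rw [mem_Cz.1 (inv_mem hc)]
        _ = _ := by group
  have Φz : ∀ x, Φ x → Φ (x * z) := by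
    rintro x ⟨b, hb, h⟩
    refine ⟨b, hb, h.symm.imp id fun h => ?_⟩
    rw [h, mul_assoc, M.zz, mul_one]
  have Ψc : ∀ c ∈ Cz z, ∀ x, Ψ x → Ψ (c * x * c⁻¹) := by
    rintro c hc x ⟨hx, h⟩
    refine ⟨mul_mem (mul_mem hc hx) (inv_mem hc), ?_⟩
    calc c * x * c⁻¹ * (c * x * c⁻¹) = c * (x * x) * c⁻¹ := by group
      _ = 1 := by rw [h]; group
  have Ψz : ∀ x, Ψ x → Ψ (x * z) := by
    rintro x ⟨hx, h⟩
    refine ⟨mul_mem hx (M.le M.z_mem), ?_⟩
    calc x * z * (x * z) = x * (z * x) * z := by group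
      _ = (x * x) * (z * z) := by rw [← mem_Cz.1 hx]; group
      _ = 1 := by rw [h, M.zz, one_mul]
  have base : ∀ (Θ : G → Prop), (∀ x, Θ x → Θ (x * z)) → Θ t →
      ∀ r ∈ Q, f r = 0 → Θ (t * r) := by
    intro Θ hΘ h r hr hr0
    refine M.same_f hΘ (one_mem Q) hr (by rw [hr0, M.f_one]) ?_
    rwa [mul_one]
  have hfc : InFix τ (f c0) := M.inverted_fix ht hc0 ((M.inverted_iff ht2).1 h20)
  have hfq : InFix τ (f q) := M.inverted_fix ht hq ((M.inverted_iff ht2).1 ht'2)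
  rcases D.covers hfc hfq (fun w => ∀ r ∈ Q, f r = w → Φ (t * r))
      (fun w => ∀ r ∈ Q, f r = w → Ψ (t * r))
      (base Φ Φz ⟨1, one_mem _, Or.inl (by group)⟩)
      (fun w l hl => M.step_L D ht ht2 Φc Φz hl)
      (fun w => M.step_d Φc Φz he hc0 hec)
      (base Ψ Ψz ⟨ht.mem, ht2⟩)
      (fun w l hl => M.step_L D ht ht2 Ψc Ψz hl)
      (fun w => M.step_d Ψc Ψz he hc0 hec)
      (fun r hr h => M.same_f Ψz hq hr h.symm ⟨ht'.mem, ht'2⟩) with h | h
  · exact h q hq rfl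
  · obtain ⟨r, hr, hf, hne⟩ := M.exists_not_inverted (t := t) D
    exact absurd ((M.inverted_iff ht2).1 (h _ hf r hr rfl).2) hne

/-- An element of `Q` negated by an involution over `ixC`. -/
theorem exists_neg {t : G} (ht : Img ρ t (P ixC)) (ht2 : t * t = 1) :
    ∃ l ∈ Q, f l ∈ lC ∧ t * l * t⁻¹ = l * z := by
  obtain ⟨v, hv⟩ := qC
  obtain ⟨r, hr, rfl⟩ := M.f_surj v
  have hti := M.inv_of_invol ht2
  have hl : t * r * t⁻¹ * r⁻¹ ∈ Q := mul_mem (M.normal t ht.mem r hr) (inv_mem hr)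
  have hf : f (t * r * t⁻¹ * r⁻¹) = vadd (f r) ((nm ixC).ap (f r)) := by
    rw [M.f_mul _ (M.normal t ht.mem r hr) _ (inv_mem hr), M.img_conj ht hr, M.f_inv hr, P_apply,
      vadd_comm_all]
  refine ⟨_, hl, by rw [hf]; exact invC.mem_L _, ?_⟩
  have h1 : (t * r * t⁻¹ * r⁻¹)⁻¹ = t * r * t⁻¹ * r⁻¹ * z := by
    rw [M.inv_eq hl, hf, hv, zp_true]
  rw [← h1]
  calc t * (t * r * t⁻¹ * r⁻¹) * t⁻¹ = (t * t) * r * t⁻¹ * r⁻¹ * t⁻¹ := by group
    _ = r * t * r⁻¹ * t⁻¹ := by rw [ht2, one_mul, hti]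
    _ = _ := by group

/-- An involution over `ixC` is conjugate to its product with `z`. -/
theorem neg_conj {t : G} (ht : Img ρ t (P ixC)) (ht2 : t * t = 1) :
    ∃ c ∈ Cz z, c * t * c⁻¹ = t * z := by
  obtain ⟨l, hl, -, h⟩ := M.exists_neg ht ht2
  refine ⟨l⁻¹, inv_mem (M.le hl), ?_⟩
  calc l⁻¹ * t * l⁻¹⁻¹ = l⁻¹ * (t * l * t⁻¹) * t := by group
    _ = z * t := by rw [h]; group
    _ = t * z := (mem_Cz.1 ht.mem).symm

/-- A noncommuting pair in the centraliser of an involution over `ixC`. -/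
theorem cent_pair {t : G} (ht : Img ρ t (P ixC)) (ht2 : t * t = 1) :
    ∃ a b : G, a ∈ Q ∧ b ∈ Q ∧ a * t = t * a ∧ b * t = t * b ∧ bl (f a) (f b) = true := by
  obtain ⟨l, hl, hlL, hlt⟩ := M.exists_neg ht ht2
  have adj : ∀ q ∈ Q, InFix ixC (f q) →
      ∃ q' ∈ Q, q' * t = t * q' ∧ InFix ixC (f q') ∧ ∀ w, InFix ixC w → bl (f q') w = bl (f q) w := by
    intro q hq hfix
    have he : f (t * q * t⁻¹) = f q := by rw [M.img_conj ht hq, P_apply, hfix]
    rcases M.f_eq hq (M.normal t ht.mem q hq) he.symm with h | h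
    · refine ⟨q, hq, ?_, hfix, fun w _ => rfl⟩
      exact (mul_inv_eq_iff_eq_mul.1 h).symm
    · refine ⟨q * l, mul_mem hq hl, ?_, ?_, fun w hw => ?_⟩
      · refine ((mul_inv_eq_iff_eq_mul (b := t)).1 ?_).symm
        calc t * (q * l) * t⁻¹ = (t * q * t⁻¹) * (t * l * t⁻¹) := by group
          _ = q * (z * l) * z := by rw [h, hlt]; group
          _ = q * l * (z * z) := by rw [← mem_Cz.1 (M.le hl)]; group
          _ = q * l := by rw [M.zz, mul_one]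
      · rw [InFix, M.f_mul q hq l hl, ap_add, hfix, invC.L_fix _ hlL]
      · rw [M.f_mul q hq l hl, bl_vadd_left, invC.L_perp _ hlL w hw, Bool.xor_false]
  obtain ⟨v, w, hv, hw, hb⟩ := invC.fix_pair
  obtain ⟨q, hq, rfl⟩ := M.f_surj v
  obtain ⟨r, hr, rfl⟩ := M.f_surj w
  obtain ⟨a, ha, hat, hafix, habl⟩ := adj q hq hv
  obtain ⟨b, hb', hbt, hbfix, hbbl⟩ := adj r hr hw
  refine ⟨a, b, ha, hb', hat, hbt, ?_⟩
  rw [habl _ hbfix, bl_comm_all, hbbl _ hv, bl_comm_all, hb]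

end Model

end CfsgLib.Small.SuzTwo
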