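import Cfsg.Agent.Lib.Small.SuzTwo.Coset
import Cfsg.Agent.Lib.Small.SuzTwo.FactsSiegel

/-!
The intersection of the centraliser of `z` with the conjugate of `Q` attached to a noncentral
involution of `Q`.
-/

set_option autoImplicit false

namespace CfsgLib.Small.SuzTwo

open Equiv

/-- A pair of exchanged conjugates of `z`. -/
structure Swap {G : Type*} [Group G] (z : G) (Q : Subgroup G) (f : G → Fin 64) (u g : G) :
    Prop where
  nc : Nc z Q u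
  fu : f u = pt
  gz : g * z * g⁻¹ = u
  zg : g⁻¹ * z * g = u

namespace Model

variable {G : Type*} [Group G] {z : G} {Q : Subgroup G} {f : G → Fin 64}
  {ρ : Cz z →* Perm (Fin 64)} (M : Model z Q f ρ)

include M

theorem exists_Swap : ∃ u g, Swap z Q f u g := by
  obtain ⟨u, hu, hfu⟩ := M.f_surj pt
  have hnc := M.Nc_of_f hu (hfu ▸ pt_facts.1) (hfu ▸ pt_facts.2)
  obtain ⟨g, h1, h2⟩ := M.exists_swap hnc
  exact ⟨u, g, hnc, hfu, h1, h2⟩

variable {u g : G} (W : Swap z Q f u g)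

include W

omit M in
theorem swap_ug : g⁻¹ * u * g = z := by
  rw [← W.gz]; group

omit M in
theorem swap_gu : g * u * g⁻¹ = z := by
  rw [← W.zg]; group

omit M in
theorem commute_u_conj {c : G} (hc : c ∈ Cz z) : g * c * g⁻¹ * u = u * (g * c * g⁻¹) := by
  rw [← W.gz]
  calc g * c * g⁻¹ * (g * z * g⁻¹) = g * (c * z) * g⁻¹ := by group
    _ = _ := by rw [mem_Cz.1 hc]; group

omit M in
theorem conj_mem_Cz {c : G} (hc : c * u = u * c) : g⁻¹ * c * g ∈ Cz z := mem_Cz.2 (by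
  rw [← swap_ug W]
  calc g⁻¹ * c * g * (g⁻¹ * u * g) = g⁻¹ * (c * u) * g := by group
    _ = _ := by rw [hc]; group)

omit M in
theorem conj_mem_Cz' {y : G} (hy : y * u = u * y) : g * y * g⁻¹ ∈ Cz z := mem_Cz.2 (by
  rw [← swap_gu W]
  calc g * y * g⁻¹ * (g * u * g⁻¹) = g * (y * u) * g⁻¹ := by group
    _ = _ := by rw [hy]; group)

theorem D_comm_u {x : G} (hx : g⁻¹ * x * g ∈ Q) : x * u = u * x := by
  have h := commute_u_conj W (M.le hx)
  rwa [show g * (g⁻¹ * x * g) * g⁻¹ = x by group] at h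

/-- The intersection of `Q` with its conjugate projects into the line of `u`. -/
theorem R0_f {q : G} (hq : q ∈ Q) (hq' : g⁻¹ * q * g ∈ Q) : f q = 0 ∨ f q = pt := by
  have hsq : ∀ r ∈ Q, g⁻¹ * r * g ∈ Q → qb (f r) = false := by
    intro r hr hr'
    refine Bool.eq_false_iff.2 fun hb => ?_
    have h1 := M.sq_zp hr'
    rw [show g⁻¹ * r * g * (g⁻¹ * r * g) = g⁻¹ * (r * r) * g by group, M.sq_zp hr, hb, zp_true,
      W.zg] at h1
    cases hb' : qb (f (g⁻¹ * r * g))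
    · rw [hb', zp_false] at h1; exact W.nc.2.2.1 h1
    · rw [hb', zp_true] at h1; exact W.nc.2.2.2 h1
  have hbl : ∀ r ∈ Q, g⁻¹ * r * g ∈ Q → ∀ s ∈ Q, g⁻¹ * s * g ∈ Q → bl (f r) (f s) = false := by
    intro r hr hr' s hs hs'
    refine Bool.eq_false_iff.2 fun hb => ?_
    have h1 := congrArg (fun x => g⁻¹ * x * g) (M.comm hr hs)
    simp only [hb, zp_true] at h1
    rw [show g⁻¹ * (s * r) * g = g⁻¹ * s * g * (g⁻¹ * r * g) by group, M.comm hr' hs',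
      show g⁻¹ * (z * (r * s)) * g = g⁻¹ * z * g * (g⁻¹ * r * g * (g⁻¹ * s * g)) by group,
      W.zg, mul_right_cancel_iff] at h1
    cases hb' : bl (f (g⁻¹ * r * g)) (f (g⁻¹ * s * g))
    · rw [hb', zp_false] at h1; exact W.nc.2.2.1 h1.symm
    · rw [hb', zp_true] at h1; exact W.nc.2.2.2 h1.symm
  by_contra hne
  push Not at hne
  have hu' : g⁻¹ * u * g ∈ Q := by rw [swap_ug W]; exact M.z_mem
  obtain ⟨i, hi, hb⟩ := move_pt (f q) (W.fu ▸ hbl q hq hq' u W.nc.1 hu') (hsq q hq hq')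
    hne.1 hne.2
  obtain ⟨c, hc, hcu⟩ := M.lift_fix W.nc.1 (W.fu ▸ pt_facts.2) (i := i) (by rw [W.fu]; exact hi)
  have h2 : g⁻¹ * (c * q * c⁻¹) * g ∈ Q := by
    have h := M.normal _ (conj_mem_Cz W hcu) _ hq'
    rwa [show g⁻¹ * c * g * (g⁻¹ * q * g) * (g⁻¹ * c * g)⁻¹ = g⁻¹ * (c * q * c⁻¹) * g by group]
      at h
  have h3 := hbl q hq hq' _ (M.normal c hc.mem q hq) h2
  rw [M.img_conj hc hq, P_apply, hb] at h3
  cases h3

theorem D_siegel {x : G} {π : Perm (Fin 64)} (hx : Img ρ x π) (hx' : g⁻¹ * x * g ∈ Q) :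
    ∃ s ∈ siegel, π = P s := by
  have hO := M.img_O hx
  have hxu := M.D_comm_u W hx'
  have hpt : π pt = pt := by
    rw [← W.fu, ← M.img_conj hx W.nc.1, hxu, mul_inv_cancel_right]
  have hperp : ∀ v, bl v pt = false → ∃ s : Bool, π v = vadd v (sel s pt) := by
    intro v hv
    obtain ⟨r, hr, rfl⟩ := M.f_surj v
    have hru : r * u = u * r := ((M.commute_iff hr W.nc.1).2 (by rw [W.fu]; exact hv)).symm
    have hrC := conj_mem_Cz W hru
    have hQ : x * r * x⁻¹ * r⁻¹ ∈ Q := mul_mem (M.normal x hx.mem r hr) (inv_mem hr)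
    have hQ' : g⁻¹ * (x * r * x⁻¹ * r⁻¹) * g ∈ Q := by
      have h := mul_mem hx' (M.normal _ hrC _ (inv_mem hx'))
      rwa [show g⁻¹ * x * g * (g⁻¹ * r * g * (g⁻¹ * x * g)⁻¹ * (g⁻¹ * r * g)⁻¹) =
        g⁻¹ * (x * r * x⁻¹ * r⁻¹) * g by group] at h
    have hf : f (x * r * x⁻¹ * r⁻¹) = vadd (π (f r)) (f r) := by
      rw [M.f_mul _ (M.normal x hx.mem r hr) _ (inv_mem hr), M.img_conj hx hr, M.f_inv hr]
    rcases M.R0_f W hQ hQ' with h | h
    · exact ⟨false, by rw [hf] at h; rw [vadd_eq_zero h]; exact (vadd_zero _).symm⟩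
    · refine ⟨true, ?_⟩
      rw [hf] at h
      show π (f r) = vadd (f r) pt
      rw [← h, vadd_comm_all (π (f r)), vadd_cancel]
  obtain ⟨s0, h0⟩ := hperp 1 (by decide)
  obtain ⟨s2, h2⟩ := hperp 4 (by decide)
  obtain ⟨s3, h3⟩ := hperp 8 (by decide)
  obtain ⟨s5, h5⟩ := hperp 32 (by decide)
  have hm : matOf π = ⟨vadd 1 (sel s0 pt), pt, vadd 4 (sel s2 pt), vadd 8 (sel s3 pt), π 16,
      vadd 32 (sel s5 pt)⟩ := by
    rw [matOf, h0, h2, h3, h5, show (2 : Fin 64) = pt from rfl, hpt]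
  obtain ⟨s, hs, he⟩ := siegel_complete s0 s2 s3 s5 (π 16)
    ⟨fun j => by rw [← hm, ← O_apply hO]; exact O_q hO _,
      fun i j => by rw [← hm, ← O_apply hO, ← O_apply hO]; exact O_bl hO _ _⟩
  exact ⟨s, hs, P_eq hO (hm.trans he.symm)⟩

/-- Conjugating by the stabiliser witnesses. -/
theorem D_move {x : G} {w : Ix × Ix × Ix} (hw : w ∈ siegelWit) (hx' : g⁻¹ * x * g ∈ Q) :
    (Img ρ x (P w.1) → ∃ y, Img ρ y (P w.2.1) ∧ g⁻¹ * y * g ∈ Q ∧ (x * x = 1 → y * y = 1)) ∧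
    (Img ρ x (P w.2.1) → ∃ y, Img ρ y (P w.1) ∧ g⁻¹ * y * g ∈ Q ∧ (x * x = 1 → y * y = 1)) := by
  obtain ⟨hpt, -, hmul⟩ := siegelWit_ok w hw
  have he : P w.2.2 * P w.2.1 = P w.1 * P w.2.2 := Equiv.ext fun v => by
    simp only [Perm.mul_apply, P_apply, ← ap_mul, hmul]
  obtain ⟨c, hc, hcu⟩ := M.lift_fix W.nc.1 (W.fu ▸ pt_facts.2) (i := w.2.2)
    (by rw [W.fu]; exact hpt)
  have mv : ∀ {b : G} {π σ : Perm (Fin 64)}, b * u = u * b → Img ρ b σ → Img ρ x π →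
      Img ρ (b * x * b⁻¹) (σ * π * σ⁻¹) ∧ g⁻¹ * (b * x * b⁻¹) * g ∈ Q ∧
        (x * x = 1 → b * x * b⁻¹ * (b * x * b⁻¹) = 1) := by
    intro b π σ hbu hb hx
    refine ⟨hx.conj hb, ?_, fun h => ?_⟩
    · have h := M.normal _ (conj_mem_Cz W hbu) _ hx'
      rwa [show g⁻¹ * b * g * (g⁻¹ * x * g) * (g⁻¹ * b * g)⁻¹ = g⁻¹ * (b * x * b⁻¹) * g by group]
        at h
    · calc b * x * b⁻¹ * (b * x * b⁻¹) = b * (x * x) * b⁻¹ := by group
        _ = 1 := by rw [h]; group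
  refine ⟨fun hx => ⟨c⁻¹ * x * c⁻¹⁻¹, ?_⟩, fun hx => ⟨c * x * c⁻¹, ?_⟩⟩
  · have hcu' : c⁻¹ * u = u * c⁻¹ := ((show Commute c u from hcu).inv_left).eq
    obtain ⟨a, b, d⟩ := mv hcu' hc.inv hx
    rw [show (P w.2.2)⁻¹ * P w.1 * (P w.2.2)⁻¹⁻¹ = P w.2.1 by
      rw [inv_inv, mul_assoc, ← he, inv_mul_cancel_left]] at a
    exact ⟨a, b, d⟩
  · obtain ⟨a, b, d⟩ := mv hcu hc hx
    rw [he, mul_inv_cancel_right] at a
    exact ⟨a, b, d⟩

theorem D_rep {x : G} (hx : x ∈ Cz z) (hx' : g⁻¹ * x * g ∈ Q) (h2 : x * x = 1) :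
    f (g⁻¹ * x * g) ∈ reps ∨ vadd (f (g⁻¹ * x * g)) pt ∈ reps := by
  refine reps_spec _ ?_ (M.zp_inj ?_)
  · have hc : g⁻¹ * x * g * u = u * (g⁻¹ * x * g) := by
      rw [← W.zg]
      calc g⁻¹ * x * g * (g⁻¹ * z * g) = g⁻¹ * (x * z) * g := by group
        _ = _ := by rw [mem_Cz.1 hx]; group
    have h := (M.commute_iff hx' W.nc.1).1 hc.symm
    rwa [W.fu] at h
  · rw [← M.sq_zp hx', zp_false, show g⁻¹ * x * g * (g⁻¹ * x * g) = g⁻¹ * (x * x) * g by group,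
      h2]
    group

theorem D_rep_inj {x x' : G} {π π' : Perm (Fin 64)} (hx : Img ρ x π) (hx' : Img ρ x' π')
    (hq : g⁻¹ * x * g ∈ Q) (hq' : g⁻¹ * x' * g ∈ Q)
    (he : vadd (f (g⁻¹ * x * g)) (f (g⁻¹ * x' * g)) = 0 ∨
      vadd (f (g⁻¹ * x * g)) (f (g⁻¹ * x' * g)) = pt) : π = π' := by
  have hd : g⁻¹ * (x⁻¹ * x') * g ∈ Q := by
    have := mul_mem (inv_mem hq) hq'
    rwa [show (g⁻¹ * x * g)⁻¹ * (g⁻¹ * x' * g) = g⁻¹ * (x⁻¹ * x') * g by group] at this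
  have hfd : f (g⁻¹ * (x⁻¹ * x') * g) = vadd (f (g⁻¹ * x * g)) (f (g⁻¹ * x' * g)) := by
    rw [show g⁻¹ * (x⁻¹ * x') * g = (g⁻¹ * x * g)⁻¹ * (g⁻¹ * x' * g) by group,
      M.f_mul _ (inv_mem hq) _ hq', M.f_inv hq]
  rw [← hfd] at he
  have hin : x⁻¹ * x' ∈ Q := by
    have hxd : x⁻¹ * x' = g * (g⁻¹ * (x⁻¹ * x') * g) * g⁻¹ := by group
    rcases he with h | h
    · rcases (M.f_ker _ hd).1 h with h1 | h1
      · rw [hxd, h1, show g * 1 * g⁻¹ = 1 by group]; exact one_mem Q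
      · rw [hxd, h1, W.gz]; exact W.nc.1
    · rcases M.f_eq W.nc.1 hd (W.fu.trans h.symm) with h1 | h1
      · rw [hxd, h1, swap_gu W]; exact M.z_mem
      · rw [hxd, h1, show g * (u * z) * g⁻¹ = g * u * g⁻¹ * (g * z * g⁻¹) by group, swap_gu W,
          W.gz]
        exact mul_mem M.z_mem W.nc.1
  have h := (hx.inv.mul hx').unique (M.img_q hin)
  rwa [inv_mul_eq_one] at h

/-- No involution of the intersection lies over `ixC`. -/
theorem D_not_C {x : G} (hx : Img ρ x (P ixC)) (hx' : g⁻¹ * x * g ∈ Q) : x * x ≠ 1 := by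
  intro h2
  have hlift : ∀ k : Fin siegelC.length, ∃ y, Img ρ y (P siegelC[k]) ∧ g⁻¹ * y * g ∈ Q ∧
      y * y = 1 := by
    intro k
    obtain ⟨w, hw, hw1, hw2⟩ := siegelC_conj _ (List.getElem_mem k.2)
    obtain ⟨y, hy, hy', hy2⟩ := (M.D_move W hw hx').2 (hw2.symm ▸ hx)
    exact ⟨y, by rwa [hw1] at hy, hy', hy2 h2⟩
  choose y hy hy' hy2 using hlift
  have hrep : ∀ k, ∃ r : Fin reps.length, vadd (f (g⁻¹ * y k * g)) reps[r] = 0 ∨
      vadd (f (g⁻¹ * y k * g)) reps[r] = pt := by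
    intro k
    rcases M.D_rep W (hy k).mem (hy' k) (hy2 k) with h | h <;>
      obtain ⟨n, hn, he⟩ := List.getElem_of_mem h
    · exact ⟨⟨n, hn⟩, Or.inl (by
        show vadd _ reps[n] = 0
        rw [he, vadd_self])⟩
    · exact ⟨⟨n, hn⟩, Or.inr (by
        show vadd _ reps[n] = pt
        rw [he, vadd_cancel])⟩
  choose r hr using hrep
  have hinj : Function.Injective r := by
    intro k l hkl
    have hk := hr k
    have hl := hr l
    rw [hkl] at hk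
    have hπ : P siegelC[k] = P siegelC[l] := by
      refine M.D_rep_inj W (hy k) (hy l) (hy' k) (hy' l) ?_
      rw [← vadd_pair _ _ reps[r l]]
      rcases hk with hk | hk <;> rcases hl with hl | hl <;> rw [hk, hl] <;>
        simp [vadd_self, vadd_zero, zero_vadd]
    have hn : nm siegelC[k] = nm siegelC[l] := mat_ext fun j => by rw [← P_apply, hπ, P_apply]
    exact Fin.ext ((siegelC_large.1.getElem_inj_iff (hi := by simpa using k.2)
      (hj := by simpa using l.2)).1 (by simpa using hn))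
  have := Fintype.card_le_of_injective r hinj
  simp only [Fintype.card_fin] at this
  exact absurd siegelC_large.2 (by omega)

/-- An involution of the intersection outside `Q` is conjugate to one over `ixA`. -/
theorem D_invol {x : G} {π : Perm (Fin 64)} (hx : Img ρ x π) (hπ : π ≠ 1)
    (hx' : g⁻¹ * x * g ∈ Q) (h2 : x * x = 1) :
    ∃ y, Img ρ y (P ixA) ∧ g⁻¹ * y * g ∈ Q ∧ y * y = 1 ∧
      ∃ σ ∈ ρ.range, σ * π * σ⁻¹ = P ixA := by
  obtain ⟨s, hs, rfl⟩ := M.D_siegel W hx hx'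
  rcases siegel_cases s hs with h | ⟨w, hw, rfl⟩
  · exact absurd (Equiv.ext fun v => by rw [P_apply, h, span_basis]; rfl) hπ
  · obtain ⟨y, hy, hy', hy2⟩ := (M.D_move W hw hx').1 hx
    obtain ⟨hpt, hk, hmul⟩ := siegelWit_ok w hw
    rcases hk with hk | ⟨hk, -⟩
    · rw [hk] at hy hmul
      refine ⟨y, hy, hy', hy2 h2, (P w.2.2)⁻¹,
        inv_mem (named_mem M.range_le M.ρ_card _), ?_⟩
      have he : P w.2.2 * P ixA = P w.1 * P w.2.2 := Equiv.ext fun v => by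
        simp only [Perm.mul_apply, P_apply, ← ap_mul, hmul]
      rw [inv_inv, mul_assoc, ← he, inv_mul_cancel_left]
    · rw [hk] at hy
      exact absurd (hy2 h2) (M.D_not_C W hy hy')

theorem exists_DA : ∃ x, Img ρ x (P ixA) ∧ g⁻¹ * x * g ∈ Q ∧ x * x = 1 := by
  obtain ⟨v, w, hv, hw, sv, sw, hb⟩ := perp_pair
  obtain ⟨q, hq, rfl⟩ := M.f_surj v
  obtain ⟨r, hr, rfl⟩ := M.f_surj w
  have mk : ∀ y ∈ Q, qb (f y) = false → bl (f y) pt = false →
      g * y * g⁻¹ ∈ Cz z ∧ g⁻¹ * (g * y * g⁻¹) * g ∈ Q ∧ g * y * g⁻¹ * (g * y * g⁻¹) = 1 := by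
    intro y hy hs hb'
    refine ⟨conj_mem_Cz' W ((M.commute_iff hy W.nc.1).2 (by rw [W.fu]; exact hb')).symm, ?_, ?_⟩
    · rwa [show g⁻¹ * (g * y * g⁻¹) * g = y by group]
    · rw [show g * y * g⁻¹ * (g * y * g⁻¹) = g * (y * y) * g⁻¹ by group, M.sq_zp hy, hs, zp_false]
      group
  obtain ⟨hqC, hqQ, hq2⟩ := mk q hq sv hv
  obtain ⟨hrC, hrQ, hr2⟩ := mk r hr sw hw
  have use1 : ∀ x (hx : x ∈ Cz z), x ∉ Q → g⁻¹ * x * g ∈ Q → x * x = 1 →
      ∃ x, Img ρ x (P ixA) ∧ g⁻¹ * x * g ∈ Q ∧ x * x = 1 := by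
    intro x hx hxQ hx' h2
    obtain ⟨y, h1, h2', h3, -⟩ := M.D_invol W (Img.mk' hx)
      (fun e => hxQ (M.img_one_mem ⟨hx, e⟩)) hx' h2
    exact ⟨y, h1, h2', h3⟩
  by_cases hqn : g * q * g⁻¹ ∈ Q
  swap
  · exact use1 _ hqC hqn hqQ hq2
  by_cases hrn : g * r * g⁻¹ ∈ Q
  swap
  · exact use1 _ hrC hrn hrQ hr2
  exfalso
  have hz : bl (f (g * q * g⁻¹)) (f (g * r * g⁻¹)) = false := by
    rcases M.R0_f W hqn hqQ with h1 | h1 <;> rcases M.R0_f W hrn hrQ with h2 | h2 <;>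
      rw [h1, h2] <;> decide
  have hc := (M.commute_iff hqn hrn).2 hz
  have hc' : r * q = q * r := by
    calc r * q = g⁻¹ * (g * r * g⁻¹ * (g * q * g⁻¹)) * g := by group
      _ = q * r := by rw [hc]; group
  rw [(M.commute_iff hq hr).1 hc'] at hb
  cases hb

/-- An element over `ixC` of the intersection, with square `u`. -/
theorem exists_DC : ∃ x, Img ρ x (P ixC) ∧ g⁻¹ * x * g ∈ Q ∧ x * x = u := by
  obtain ⟨a, ha, ha', ha2⟩ := M.exists_DA W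
  have lf : ∀ s : Ix, s = facA.1 ∨ s = facA.2 →
      ∃ y, Img ρ y (P s) ∧ g⁻¹ * y * g ∈ Q := by
    intro s hs
    obtain ⟨w, hw, hw1, hw2⟩ := facA_conj s hs
    obtain ⟨y, hy, hy', -⟩ := (M.D_move W hw ha').2 (hw2.symm ▸ ha)
    exact ⟨y, hw1 ▸ hy, hy'⟩
  obtain ⟨b, hb, hb'⟩ := lf _ (Or.inl rfl)
  obtain ⟨c, hc, hc'⟩ := lf _ (Or.inr rfl)
  have hI : Img ρ (b * c) (P ixC) := by
    rw [show P ixC = P facA.1 * P facA.2 from Equiv.ext fun v => by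
      simp only [Perm.mul_apply, P_apply, ← ap_mul, ixC_mem]]
    exact hb.mul hc
  have hD : g⁻¹ * (b * c) * g ∈ Q := by
    have := mul_mem hb' hc'
    rwa [show g⁻¹ * b * g * (g⁻¹ * c * g) = g⁻¹ * (b * c) * g by group] at this
  refine ⟨b * c, hI, hD, ?_⟩
  have h1 := M.sq_zp hD
  cases hq : qb (f (g⁻¹ * (b * c) * g)) <;> rw [hq] at h1
  · exfalso
    refine M.D_not_C W hI hD ?_
    rw [zp_false] at h1
    calc b * c * (b * c) = g * (g⁻¹ * (b * c) * g * (g⁻¹ * (b * c) * g)) * g⁻¹ := by group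
      _ = 1 := by rw [h1]; group
  · rw [zp_true] at h1
    calc b * c * (b * c) = g * (g⁻¹ * (b * c) * g * (g⁻¹ * (b * c) * g)) * g⁻¹ := by group
      _ = u := by rw [h1, W.gz]

end Model

end CfsgLib.Small.SuzTwo
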