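import Cfsg.Agent.Lib.Small.SuzTwo.Data

/-!
Finite checks on the named elements of the orthogonal group of minus type in dimension six.
-/

set_option autoImplicit false
set_option maxRecDepth 100000
set_option maxHeartbeats 0

namespace CfsgLib.Small.SuzTwo

set_option synthInstance.maxSize 4000
set_option synthInstance.maxHeartbeats 0

/-- `v` is fixed by the involution `i`. -/
abbrev InFix (i : Ix) (v : Fin 64) : Prop := (nm i).ap v = v

/-- The commutator space of `ixA`. -/
def lA : List (Fin 64) := [0, 2, 4, 6]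

/-- The commutator space of `ixC`. -/
def lC : List (Fin 64) := [0, 1, 2, 3]

theorem vadd_val : ∀ v w : Fin 64, (vadd v w).val = v.val ^^^ w.val := by decide +kernel

theorem vadd_assoc_all : ∀ u v w : Fin 64, vadd (vadd u v) w = vadd u (vadd v w) :=
  fun u v w => Fin.ext (by simp only [vadd_val, Nat.xor_assoc])

theorem vadd_comm_all : ∀ v w : Fin 64, vadd v w = vadd w v := by decide +kernel

theorem vadd_self_all : ∀ v : Fin 64, vadd v v = 0 := by decide +kernel

theorem vadd_zero_all : ∀ v : Fin 64, vadd v 0 = v := by decide +kernel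

theorem bl_formula : ∀ v w : Fin 64, bl v w =
    ((((v.val.testBit 0 && w.val.testBit 3) ^^ (v.val.testBit 3 && w.val.testBit 0)) ^^
      ((v.val.testBit 1 && w.val.testBit 4) ^^ (v.val.testBit 4 && w.val.testBit 1))) ^^
      ((v.val.testBit 2 && w.val.testBit 5) ^^ (v.val.testBit 5 && w.val.testBit 2))) := by
  decide +kernel

theorem bl_comm_all : ∀ v w : Fin 64, bl v w = bl w v := by decide +kernel

theorem bl_nondeg : ∀ v : Fin 64, (∀ w, bl v w = false) → v = 0 := by decide +kernel

theorem span_basis : ∀ v : Fin 64, idMat.ap v = v := by decide +kernel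

theorem trans_pt : ∀ v : Fin 64, qb v = false → v ≠ 0 → ∃ i : Ix, (nm i).ap v = pt := by
  decide +kernel

theorem reps_spec : ∀ v : Fin 64, bl v pt = false → qb v = false →
    v ∈ reps ∨ vadd v pt ∈ reps := by
  decide +kernel

theorem move_pt : ∀ v : Fin 64, bl v pt = false → qb v = false → v ≠ 0 → v ≠ pt →
    ∃ i : Ix, (nm i).ap pt = pt ∧ bl v ((nm i).ap v) = true := by
  decide +kernel

theorem pt_facts : qb pt = false ∧ pt ≠ 0 := by decide +kernel

theorem perp_pair : ∃ v w : Fin 64, bl v pt = false ∧ bl w pt = false ∧ qb v = false ∧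
    qb w = false ∧ bl v w = true := by
  decide +kernel

theorem five_facts : (nm five).ap pt = pt ∧ nm five ≠ idMat ∧
    ∀ v, (nm five).ap ((nm five).ap ((nm five).ap ((nm five).ap ((nm five).ap v)))) = v := by
  decide +kernel

/-- The properties of the two involutions used. -/
structure InvolData (τ d : Ix) (L : List (Fin 64)) : Prop where
  invol : ∀ v, (nm τ).ap ((nm τ).ap v) = v
  ne_one : nm τ ≠ idMat
  mem_L : ∀ v, vadd v ((nm τ).ap v) ∈ L
  L_mem : ∀ l ∈ L, ∃ v, vadd v ((nm τ).ap v) = l
  L_len : L.length = 4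
  L_fix : ∀ l ∈ L, InFix τ l
  L_perp : ∀ l ∈ L, ∀ v, InFix τ v → bl l v = false
  fix_pair : ∃ v w, InFix τ v ∧ InFix τ w ∧ bl v w = true
  fix_cover : ∃ a b, InFix τ a ∧ InFix τ b ∧ ∀ v, InFix τ v →
    v ∈ L ∨ vadd v a ∈ L ∨ vadd v b ∈ L ∨ vadd v (vadd a b) ∈ L
  d_comm : ∀ v, (nm d).ap ((nm τ).ap v) = (nm τ).ap ((nm d).ap v)
  d_orbit : ∀ c v, InFix τ c → InFix τ v →
    v ∈ L ∨ vadd v c ∈ L ∨ vadd v (vadd c ((nm d).ap c)) ∈ L ∨
      ∀ u, InFix τ u → u ∈ L ∨ vadd u c ∈ L ∨ vadd u (vadd c ((nm d).ap c)) ∈ L ∨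
        vadd u v ∈ L ∨ vadd u (vadd c ((nm d).ap v)) ∈ L ∨
        vadd u (vadd c ((nm d).ap (vadd c ((nm d).ap v)))) ∈ L

theorem invA : InvolData ixA dA lA :=
  ⟨by decide +kernel, by decide +kernel, by decide +kernel, by decide +kernel, by decide +kernel,
    by decide +kernel, by decide +kernel, by decide +kernel, by decide +kernel, by decide +kernel,
    by decide +kernel⟩

theorem invC : InvolData ixC dC lC :=
  ⟨by decide +kernel, by decide +kernel, by decide +kernel, by decide +kernel, by decide +kernel,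
    by decide +kernel, by decide +kernel, by decide +kernel, by decide +kernel, by decide +kernel,
    by decide +kernel⟩

theorem qA : ∀ v, qb (vadd v ((nm ixA).ap v)) = false := by decide +kernel

theorem qC : ∃ v, qb (vadd v ((nm ixC).ap v)) = true := by decide +kernel

theorem ixC_fix_pt : (nm ixC).ap pt = pt ∧ ∃ v, vadd v ((nm ixC).ap v) = pt := by decide +kernel

end CfsgLib.Small.SuzTwo
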