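import Cfsg.Agent.Lib.Small.SuzTwo.Model

/-!
No element of order five commutes with an involution of the orthogonal group; consequently
the relation `InQ` between distinct conjugates of `z` is symmetric.
-/

set_option autoImplicit false

namespace CfsgLib.Small.SuzTwo

open Equiv

theorem vadd_pair (a b c : Fin 64) : vadd (vadd a c) (vadd b c) = vadd a b := by
  rw [vadd_four, vadd_self, vadd_zero]

namespace InvolData

variable {τ d : Ix} {L : List (Fin 64)} (D : InvolData τ d L)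

include D

theorem L_add {l m : Fin 64} (hl : l ∈ L) (hm : m ∈ L) : vadd l m ∈ L := by
  obtain ⟨v, rfl⟩ := D.L_mem l hl
  obtain ⟨w, rfl⟩ := D.L_mem m hm
  rw [vadd_four, ← ap_add]
  exact D.mem_L _

theorem L_zero : (0 : Fin 64) ∈ L := by
  have h := D.mem_L 0
  rwa [ap_zero, vadd_zero] at h

theorem P_sq : P τ * P τ = 1 :=
  Equiv.ext fun v => by rw [Perm.mul_apply, P_apply, P_apply, D.invol]; rfl

theorem P_ne : P τ ≠ 1 := fun h =>
  D.ne_one (mat_ext fun j => by rw [← P_apply, h, span_basis]; rfl)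

end InvolData

theorem fix_of_pow_fix {g : Perm (Fin 64)} (h5 : g ^ 5 = 1) {k : ℕ} (hk : 1 ≤ k ∧ k ≤ 4)
    {v : Fin 64} (h : (g ^ k) v = v) : g v = v := by
  have hp : ∀ m : ℕ, (g ^ (k * m)) v = v := by
    intro m
    induction m with
    | zero => simp
    | succ m ih => rw [Nat.mul_succ, pow_add, Perm.mul_apply, h, ih]
  obtain ⟨hk1, hk2⟩ := hk
  obtain ⟨m, q, hm⟩ : ∃ m q : ℕ, k * m = 5 * q + 1 := by
    interval_cases k
    · exact ⟨1, 0, rfl⟩
    · exact ⟨3, 1, rfl⟩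
    · exact ⟨2, 1, rfl⟩
    · exact ⟨4, 3, rfl⟩
  have hh := hp m
  rwa [hm, pow_succ, pow_mul, h5, one_pow, one_mul] at hh

theorem fix_of_small {g : Perm (Fin 64)} (h5 : g ^ 5 = 1) {v : Fin 64} {X : Finset (Fin 64)}
    (hX : X.card ≤ 4) (h : ∀ k : ℕ, (g ^ k) v ∈ X) : g v = v := by
  obtain ⟨i, j, hne, he⟩ := Fintype.exists_ne_map_eq_of_card_lt
    (fun k : Fin 5 => (⟨(g ^ k.val) v, h k.val⟩ : X)) (by simp; omega)
  wlog hij : i.val < j.val generalizing i j with H
  · exact H j i hne.symm he.symm (by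
      have := Fin.val_ne_of_ne hne
      omega)
  refine fix_of_pow_fix h5 (k := j.val - i.val) ⟨by omega, by omega⟩ ?_
  apply (g ^ i.val).injective
  rw [← Perm.mul_apply, ← pow_add, Nat.add_sub_cancel' hij.le]
  exact (congrArg Subtype.val he).symm

theorem transvect_zero {g : Perm (Fin 64)} (hg : g ∈ O) (h5 : g ^ 5 = 1) {v w : Fin 64}
    (hw : g w = w) (hv : g v = vadd v w) : w = 0 := by
  have h : (g ^ 5) v = vadd v w := by
    simp only [pow_succ, pow_zero, one_mul, Perm.mul_apply, hv, O_add hg, hw, vadd_assoc_all,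
      vadd_self, vadd_zero]
  rw [h5, Perm.one_apply] at h
  exact vadd_left_inj (h.symm.trans (vadd_zero v).symm)

theorem no_five {τ d : Ix} {L : List (Fin 64)} (D : InvolData τ d L) {g : Perm (Fin 64)}
    (hg : g ∈ O) (h5 : g ^ 5 = 1) (hc : g * P τ = P τ * g) : g = 1 := by
  have hcc : ∀ (k : ℕ) (v : Fin 64), (g ^ k) ((nm τ).ap v) = (nm τ).ap ((g ^ k) v) := by
    intro k v
    have h := (show Commute g (P τ) from hc).pow_left k
    have h' := congrArg (fun p : Perm (Fin 64) => p v) h.eq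
    simpa only [Perm.mul_apply, P_apply] using h'
  have hO : ∀ k : ℕ, g ^ k ∈ O := fun k => pow_mem hg k
  have hL : ∀ l ∈ L, g l = l := by
    intro l hl
    refine fix_of_small h5 (X := L.toFinset)
      ((List.toFinset_card_le L).trans D.L_len.le) fun k => List.mem_toFinset.2 ?_
    obtain ⟨v, rfl⟩ := D.L_mem l hl
    rw [O_add (hO k), hcc]
    exact D.mem_L _
  have hLk : ∀ k : ℕ, ∀ l ∈ L, (g ^ k) l = l := by
    intro k l hl
    induction k with
    | zero => rfl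
    | succ k ih => rw [pow_succ, Perm.mul_apply, hL l hl, ih]
  have hC : ∀ v, InFix τ v → g v = v := by
    intro v hv
    obtain ⟨a, b, ha, hb, hcov⟩ := D.fix_cover
    let r : Fin 4 → Fin 64 := ![0, a, b, vadd a b]
    have hr : ∀ k : ℕ, ∃ t : Fin 4, vadd ((g ^ k) v) (r t) ∈ L := by
      intro k
      have hf : InFix τ ((g ^ k) v) := by rw [InFix, ← hcc, hv]
      rcases hcov _ hf with h | h | h | h
      · exact ⟨0, by simpa [r, vadd_zero] using h⟩
      · exact ⟨1, by simpa [r] using h⟩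
      · exact ⟨2, by simpa [r] using h⟩
      · exact ⟨3, by simpa [r] using h⟩
    choose t ht using hr
    obtain ⟨i, j, hne, he⟩ :=
      Fintype.exists_ne_map_eq_of_card_lt (fun k : Fin 5 => t k.val) (by simp)
    wlog hij : i.val < j.val generalizing i j with H
    · exact H j i hne.symm he.symm (by
        have := Fin.val_ne_of_ne hne
        omega)
    have hl : vadd ((g ^ i.val) v) ((g ^ j.val) v) ∈ L := by
      have h := D.L_add (ht i.val) (ht j.val)
      rwa [show t i.val = t j.val from he, vadd_pair] at h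
    have hk : (g ^ (j.val - i.val)) ((g ^ i.val) v) =
        vadd ((g ^ i.val) v) (vadd ((g ^ i.val) v) ((g ^ j.val) v)) := by
      rw [vadd_cancel, ← Perm.mul_apply, ← pow_add, Nat.sub_add_cancel hij.le]
    have h0 := transvect_zero (hO _) (by rw [← pow_mul, mul_comm, pow_mul, h5, one_pow])
      (hLk _ _ hl) hk
    refine fix_of_pow_fix h5 (k := j.val - i.val) ⟨by omega, by omega⟩ ?_
    apply (g ^ i.val).injective
    rw [← Perm.mul_apply, ← pow_add, Nat.add_sub_cancel' hij.le]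
    exact (vadd_eq_zero h0).symm
  refine Equiv.ext fun v => ?_
  rw [Perm.one_apply]
  have hm := D.mem_L v
  have hcv : g ((nm τ).ap v) = (nm τ).ap (g v) := by simpa using hcc 1 v
  have htv : vadd v ((nm τ).ap v) = vadd (g v) ((nm τ).ap (g v)) := by
    rw [← hcv, ← O_add hg, hL _ hm]
  have hw : InFix τ (vadd v (g v)) := by
    have h : vadd v (g v) = vadd ((nm τ).ap v) ((nm τ).ap (g v)) := by
      refine vadd_eq_zero ?_
      rw [vadd_four, htv, vadd_self]
    rw [InFix, ap_add]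
    exact h.symm
  exact (vadd_eq_zero (transvect_zero hg h5 (v := v) (hC _ hw) (by rw [vadd_cancel]))).symm

namespace Model

variable {G : Type*} [Group G] {z : G} {Q : Subgroup G} {f : G → Fin 64}
  {ρ : Cz z →* Perm (Fin 64)} (M : Model z Q f ρ)

include M

theorem InQ_self_z {u : G} (hu : Nc z Q u) : InQ z Q u z := by
  suffices h : ∀ w : G, Nc z Q w → f w = pt → InQ z Q w z by
    obtain ⟨v, hvQ, hvf⟩ := M.f_surj pt
    have hv : Nc z Q v := M.Nc_of_f hvQ (hvf ▸ pt_facts.1) (hvf ▸ pt_facts.2)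
    obtain ⟨c, hc, hcv⟩ := M.nc_trans hv hu
    have h1 := InQ_conj c (h v hv hvf)
    rwa [hcv, mem_Cz.1 hc, mul_inv_cancel_right] at h1
  intro u hu hfu
  obtain ⟨g, hg⟩ := M.nc_conj_z hu
  refine ⟨g, hg, ?_⟩
  by_contra hz'
  have huz : u * z = z * u := mem_Cz.1 (M.le hu.1)
  have hgu : g * z = u * g := by rw [← hg]; group
  have hz'C : g⁻¹ * z * g ∈ Cz z := mem_Cz.2 (by
    calc g⁻¹ * z * g * z = g⁻¹ * z * (g * z) := by group
      _ = g⁻¹ * (u * z) * g := by rw [hgu, huz]; group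
      _ = g⁻¹ * u * g * (g⁻¹ * z * g) := by group
      _ = z * (g⁻¹ * z * g) := by rw [← hg]; group)
  obtain ⟨τ', hτ'⟩ : ∃ π, Img ρ (g⁻¹ * z * g) π := ⟨_, Img.mk' hz'C⟩
  have hτ'2 : τ' * τ' = 1 := by
    have h := hτ'.mul hτ'
    rw [show g⁻¹ * z * g * (g⁻¹ * z * g) = g⁻¹ * (z * z) * g by group, M.zz, mul_one,
      inv_mul_cancel] at h
    exact h.unique Img.one
  have hτ'1 : τ' ≠ 1 := fun e => hz' (M.img_one_mem (e ▸ hτ'))
  obtain ⟨hfive, hfne, hf5⟩ := five_facts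
  obtain ⟨c, hc, hcu⟩ := M.lift_fix hu.1 (hfu ▸ pt_facts.2) (i := five) (by rw [hfu]; exact hfive)
  have hP5 : P five ^ 5 = 1 := Equiv.ext fun v => by
    simp only [pow_succ, pow_zero, one_mul, Perm.mul_apply, P_apply, Perm.one_apply, hf5]
  have hc5Q : c ^ 5 ∈ Q := M.img_one_mem (hP5 ▸ hc.pow 5)
  have hc20 : c ^ 20 = 1 := by
    have h1 : (c ^ 5) ^ 4 = 1 := by
      rw [show (4 : ℕ) = 2 * 2 by norm_num, pow_mul, pow_two, pow_two, M.sq_zp hc5Q, ← M.zp_xor,
        Bool.xor_self, zp_false]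
    rwa [← pow_mul] at h1
  obtain ⟨e, he5, he, heu⟩ : ∃ e : G, e ^ 5 = 1 ∧ e ∉ Q ∧ e * u = u * e ∧ e ∈ Cz z := by
    refine ⟨c ^ 4, by rw [← pow_mul, hc20], M.not_mem_of_img (hc.pow 4) fun h => ?_,
      ⟨((show Commute c u from hcu).pow_left 4).eq, (hc.pow 4).mem⟩⟩
    refine hfne (mat_ext fun j => ?_)
    have h' : P five = 1 := by rw [← hP5, pow_succ, h, one_mul]
    rw [← P_apply, h', span_basis]
    rfl
  obtain ⟨heu, heC⟩ := heu
  have heC' : g⁻¹ * e * g ∈ Cz z := mem_Cz.2 (by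
    calc g⁻¹ * e * g * z = g⁻¹ * e * (g * z) := by group
      _ = g⁻¹ * (e * u) * g := by rw [hgu]; group
      _ = g⁻¹ * u * g * (g⁻¹ * e * g) := by rw [heu]; group
      _ = z * (g⁻¹ * e * g) := by rw [← hg]; group)
  obtain ⟨σ, hσ⟩ : ∃ π, Img ρ (g⁻¹ * e * g) π := ⟨_, Img.mk' heC'⟩
  have he5' : (g⁻¹ * e * g) ^ 5 = 1 := by
    rw [show g⁻¹ * e * g = g⁻¹ * e * (g⁻¹)⁻¹ by rw [inv_inv], conj_pow, he5]
    group
  have hσ5 : σ ^ 5 = 1 := (hσ.pow 5).unique (he5'.symm ▸ Img.one)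
  have hσ1 : σ ≠ 1 := fun h => by
    have hQ := M.img_one_mem (h ▸ hσ)
    have h4 : (g⁻¹ * e * g) ^ 4 = 1 := by
      rw [show (4 : ℕ) = 2 * 2 by norm_num, pow_mul, pow_two, pow_two, M.sq_zp hQ, ← M.zp_xor,
        Bool.xor_self, zp_false]
    rw [pow_succ, h4, one_mul] at he5'
    refine he ?_
    have : e = 1 := by
      calc e = g * (g⁻¹ * e * g) * g⁻¹ := by group
        _ = 1 := by rw [he5']; group
    rw [this]
    exact one_mem Q
  have hcom : σ * τ' = τ' * σ := by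
    refine (hσ.mul hτ').unique ?_
    have : g⁻¹ * e * g * (g⁻¹ * z * g) = g⁻¹ * z * g * (g⁻¹ * e * g) := by
      calc g⁻¹ * e * g * (g⁻¹ * z * g) = g⁻¹ * (e * z) * g := by group
        _ = _ := by rw [mem_Cz.1 heC]; group
    rw [this]
    exact hτ'.mul hσ
  obtain ⟨w, hwR, hw⟩ := invol_conj M.range_le M.ρ_card hτ'.mem_range hτ'2 hτ'1
  have key : ∀ {τ d : Ix} {L : List (Fin 64)}, InvolData τ d L → w * τ' * w⁻¹ = P τ → False := by
    intro τ d L D hτ
    refine hσ1 (conj_eq_one_iff.1 (no_five D (g := w * σ * w⁻¹)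
      (mul_mem (mul_mem (M.range_le hwR) (M.img_O hσ)) (inv_mem (M.range_le hwR)))
      (by rw [conj_pow, hσ5, mul_one, mul_inv_cancel]) ?_))
    rw [← hτ]
    calc w * σ * w⁻¹ * (w * τ' * w⁻¹) = w * (σ * τ') * w⁻¹ := by group
      _ = _ := by rw [hcom]; group
  rcases hw with h | h
  · exact key invA h
  · exact key invC h

/-- Symmetry of the relation for distinct conjugates of `z`. -/
theorem InQ_symm {a b : G} (ha : ∃ k : G, k * z * k⁻¹ = a) (hb : b * b = 1) (hb1 : b ≠ 1)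
    (hab : b ≠ a) (h : InQ z Q a b) : InQ z Q b a := by
  obtain ⟨k, hk⟩ := ha
  have hkb := M.InQ_any h hk
  have hnc : Nc z Q (k⁻¹ * b * k) := by
    refine ⟨hkb, ?_, fun e => hb1 ?_, fun e => hab ?_⟩
    · calc k⁻¹ * b * k * (k⁻¹ * b * k) = k⁻¹ * (b * b) * k := by group
        _ = 1 := by rw [hb]; group
    · calc b = k * (k⁻¹ * b * k) * k⁻¹ := by group
        _ = 1 := by rw [e]; group
    · calc b = k * (k⁻¹ * b * k) * k⁻¹ := by group
        _ = a := by rw [e, hk]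
  have h1 := InQ_conj k (M.InQ_self_z hnc)
  rwa [hk, show k * (k⁻¹ * b * k) * k⁻¹ = b by group] at h1

/-- A conjugating element exchanging `z` and `u`. -/
theorem exists_swap {u : G} (hu : Nc z Q u) :
    ∃ g : G, g * z * g⁻¹ = u ∧ g⁻¹ * z * g = u := by
  obtain ⟨g, hg⟩ := M.nc_conj_z hu
  have hQ := M.InQ_any (M.InQ_self_z hu) hg
  have hnc : Nc z Q (g⁻¹ * z * g) := by
    refine ⟨hQ, ?_, fun e => M.z_ne ?_, fun e => hu.2.2.2 ?_⟩
    · calc g⁻¹ * z * g * (g⁻¹ * z * g) = g⁻¹ * (z * z) * g := by group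
        _ = 1 := by rw [M.zz]; group
    · calc z = g * (g⁻¹ * z * g) * g⁻¹ := by group
        _ = 1 := by rw [e]; group
    · rw [← hg]
      calc g * z * g⁻¹ = g * (g⁻¹ * z * g) * g⁻¹ := by rw [e]
        _ = z := by group
  obtain ⟨c, hc, hcu⟩ := M.nc_trans hu hnc
  refine ⟨g * c, ?_, ?_⟩
  · rw [← hg]
    calc g * c * z * (g * c)⁻¹ = g * (c * z) * c⁻¹ * g⁻¹ := by group
      _ = g * (z * c) * c⁻¹ * g⁻¹ := by rw [mem_Cz.1 hc]
      _ = g * z * g⁻¹ := by group
  · calc (g * c)⁻¹ * z * (g * c) = c⁻¹ * (g⁻¹ * z * g) * c := by group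
      _ = c⁻¹ * (c * u * c⁻¹) * c := by rw [hcu]
      _ = u := by group

end Model

end CfsgLib.Small.SuzTwo
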