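import Cfsg.Agent.Lib.Small.SuzTwo.Model

/-!
Elements of order three of the centraliser with a large fixed group on the extraspecial
subgroup generate subgroups forming a single conjugacy class.
-/

set_option autoImplicit false
set_option maxRecDepth 100000
set_option linter.style.haveILetI false

namespace CfsgLib.Small.SuzTwo

open Equiv
open scoped commutatorElement

/-- The map of order three on the plane spanned by `a` and `b`, trivial on its complement. -/
def planeRot (a b x : Fin 64) : Fin 64 :=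
  vadd x (vadd (sel (bl x a ^^ bl x b) a) (sel (bl x b) b))

/-- The reference plane. -/
def planeRef : List (Fin 64) := [17, 41, 56]

/-- For each anisotropic plane, two named elements whose product moves it to the reference
plane. -/
def planeWit : List (Fin 64 × Fin 64 × Fin 64 × Ix × Ix) := [
    (1, 8, 9, 26, 0), (1, 10, 11, 25, 0), (1, 12, 13, 25, 1), (1, 14, 15, 25, 2), (1, 24, 25, 15, 0),
    (1, 28, 29, 16, 0), (1, 40, 41, 7, 0), (1, 42, 43, 8, 0), (1, 56, 57, 7, 2), (1, 62, 63, 17, 0),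
    (3, 8, 11, 21, 0), (3, 9, 10, 5, 0), (3, 12, 15, 112, 3), (3, 13, 14, 92, 3), (3, 17, 18, 93, 2),
    (3, 21, 22, 25, 9), (3, 40, 43, 3, 0), (3, 41, 42, 4, 0), (3, 49, 50, 93, 1), (3, 52, 55, 63, 3),
    (5, 8, 13, 21, 1), (5, 9, 12, 5, 1), (5, 10, 15, 12, 3), (5, 11, 14, 14, 3), (5, 24, 29, 14, 0),
    (5, 25, 28, 12, 0), (5, 33, 36, 58, 5), (5, 35, 38, 93, 3), (5, 49, 52, 93, 0), (5, 50, 55, 27, 7),
    (7, 8, 15, 21, 2), (7, 9, 14, 5, 2), (7, 10, 13, 111, 3), (7, 11, 12, 96, 3), (7, 17, 22, 60, 5),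
    (7, 18, 21, 63, 11), (7, 33, 38, 58, 3), (7, 35, 36, 62, 3), (7, 56, 63, 11, 0), (7, 57, 62, 4, 2),
    (8, 17, 25, 95, 0), (8, 21, 29, 3, 5), (8, 33, 41, 95, 1), (8, 35, 43, 39, 4), (8, 49, 57, 101, 0),
    (8, 55, 63, 78, 4), (9, 17, 24, 116, 0), (9, 21, 28, 97, 0), (9, 33, 40, 106, 0), (9, 35, 42, 103, 0),
    (9, 49, 56, 106, 2), (9, 55, 62, 103, 2), (10, 18, 24, 100, 2), (10, 22, 28, 32, 5), (10, 33, 43, 92, 1),
    (10, 35, 41, 111, 1), (10, 50, 56, 100, 1), (10, 52, 62, 78, 3), (11, 18, 25, 21, 4), (11, 22, 29, 28, 5),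
    (11, 33, 42, 102, 0), (11, 35, 40, 107, 0), (11, 50, 57, 41, 3), (11, 52, 63, 81, 3), (12, 17, 29, 92, 0),
    (12, 21, 25, 111, 0), (12, 36, 40, 79, 4), (12, 38, 42, 37, 4), (12, 50, 62, 74, 4), (12, 52, 56, 100, 0),
    (13, 17, 28, 112, 0), (13, 21, 24, 96, 0), (13, 36, 41, 80, 4), (13, 38, 43, 100, 3), (13, 50, 63, 77, 4),
    (13, 52, 57, 35, 4), (14, 18, 28, 41, 5), (14, 22, 24, 36, 11), (14, 36, 42, 79, 3), (14, 38, 40, 37, 3),
    (14, 49, 63, 74, 3), (14, 55, 57, 38, 3), (15, 18, 29, 36, 5), (15, 22, 25, 41, 11), (15, 36, 43, 80, 3),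
    (15, 38, 41, 40, 3), (15, 49, 62, 102, 2), (15, 55, 56, 107, 2), (17, 35, 50, 59, 0), (17, 38, 55, 63, 0),
    (17, 40, 57, 30, 0), (17, 41, 56, 0, 0), (18, 35, 49, 60, 0), (18, 38, 52, 64, 0), (18, 42, 56, 32, 0),
    (18, 43, 57, 28, 0), (21, 33, 52, 58, 0), (21, 36, 49, 62, 0), (21, 42, 63, 31, 0), (21, 43, 62, 27, 0),
    (22, 33, 55, 61, 0), (22, 36, 50, 65, 0), (22, 40, 62, 33, 0), (22, 41, 63, 29, 0), (24, 33, 57, 2, 0),
    (24, 38, 62, 81, 0), (24, 41, 49, 34, 0), (24, 42, 50, 41, 0), (25, 33, 56, 1, 0), (25, 38, 63, 78, 0),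
    (25, 40, 49, 39, 0), (25, 43, 50, 36, 0), (28, 35, 63, 77, 0), (28, 36, 56, 80, 0), (28, 40, 52, 40, 0),
    (28, 43, 55, 35, 0), (29, 35, 62, 74, 0), (29, 36, 57, 79, 0), (29, 41, 52, 37, 0), (29, 42, 55, 38, 0)]

/-- The vector reached by a witness. -/
def planeMove (e : Fin 64 × Fin 64 × Fin 64 × Ix × Ix) (v : Fin 64) : Fin 64 :=
  (nm e.2.2.2.1).ap ((nm e.2.2.2.2).ap v)

theorem planeWit_all : planeWit.all (fun e => planeRef.contains (planeMove e e.1) &&
    (planeRef.contains (planeMove e e.2.1) && planeRef.contains (planeMove e e.2.2.1))) = true := by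
  decide +kernel

theorem planeWit_ok : ∀ e ∈ planeWit, ∀ v : Fin 64, v = e.1 ∨ v = e.2.1 ∨ v = e.2.2.1 →
    (nm e.2.2.2.1).ap ((nm e.2.2.2.2).ap v) ∈ planeRef := by
  intro e he v hv
  have h := List.all_eq_true.1 planeWit_all e he
  simp only [Bool.and_eq_true, List.contains_iff_mem] at h
  rcases hv with rfl | rfl | rfl
  · exact h.1
  · exact h.2.1
  · exact h.2.2

theorem planeWit_complete : ∀ a b : Fin 64, qb a = true → qb b = true → bl a b = true →
    ∃ e ∈ planeWit, (a = e.1 ∨ a = e.2.1 ∨ a = e.2.2.1) ∧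
      (b = e.1 ∨ b = e.2.1 ∨ b = e.2.2.1) := by
  decide +kernel

theorem planeRot_ref : ∀ u ∈ planeRef, ∀ v ∈ planeRef, ∀ u' ∈ planeRef, ∀ v' ∈ planeRef,
    u ≠ v → u' ≠ v' → (∀ x, planeRot u v x = planeRot u' v' x) ∨
      (∀ x, planeRot u v (planeRot u' v' x) = x) := by
  decide +kernel

theorem bl_zero_left (v : Fin 64) : bl 0 v = false := by
  unfold bl
  rw [zero_vadd, qb_zero]
  cases qb v <;> rfl

theorem planeRot_conj {r : Perm (Fin 64)} (h : r ∈ O) (a b x : Fin 64) :
    r (planeRot a b x) = planeRot (r a) (r b) (r x) := by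
  simp only [planeRot, O_add h, O_sel h, O_bl h]

/-- An orthogonal map of order three with a large fixed space is a rotation of a plane. -/
theorem exists_planeRot {π : Perm (Fin 64)} (hπ : π ∈ O) (h3 : π ^ 3 = 1) (hne : π ≠ 1)
    (hfix : 16 ≤ (Finset.univ.filter fun x => π x = x).card) :
    ∃ a b, qb a = true ∧ qb b = true ∧ bl a b = true ∧ ∀ x, π x = planeRot a b x := by
  have h3' : ∀ x, π (π (π x)) = x := fun x => by
    have h := Equiv.congr_fun h3 x
    simpa [pow_succ] using h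
  set D : Fin 64 → Fin 64 := fun x => vadd x (π x) with hD
  have Dadd : ∀ x y, D (vadd x y) = vadd (D x) (D y) := fun x y => by
    simp only [hD, O_add hπ]
    ac_rfl
  have Dzero : ∀ x, D x = 0 ↔ π x = x := fun x =>
    ⟨fun h => (vadd_eq_zero h).symm, fun h => by simp only [hD, h, vadd_self]⟩
  have him : (Finset.univ.image D).card ≤ 4 := by
    have hfib : ∀ w ∈ Finset.univ.image D,
        16 ≤ (Finset.univ.filter fun x => D x = w).card := by
      intro w hw
      obtain ⟨x₀, -, rfl⟩ := Finset.mem_image.1 hw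
      refine hfix.trans (Finset.card_le_card_of_injOn (fun x => vadd x₀ x) ?_ ?_)
      · intro x hx
        simp only [Finset.coe_filter, Finset.mem_univ, true_and, Set.mem_ofPred_eq] at hx ⊢
        rw [Dadd, (Dzero x).2 hx, vadd_zero]
      · intro x _ y _ h
        exact vadd_left_inj h
    have h := Finset.card_eq_sum_card_image D (Finset.univ : Finset (Fin 64))
    have h' := Finset.card_nsmul_le_sum _ _ _ hfib
    rw [← h, Finset.card_univ, Fintype.card_fin, smul_eq_mul] at h'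
    omega
  obtain ⟨v, hv⟩ : ∃ v, π v ≠ v := by
    by_contra hall
    push Not at hall
    exact hne (Equiv.ext hall)
  set a := D v with ha
  set b := π a with hb
  have ha0 : a ≠ 0 := fun h => hv ((Dzero v).1 h)
  have hbD : b = D (π v) := by simp only [hb, ha, hD, O_add hπ]
  have hab : vadd a b = D a := rfl
  have hna : b ≠ a := by
    intro h
    have h1 : vadd (π v) (π (π v)) = vadd (π v) v := by
      rw [hb, ha] at h
      simp only [hD, O_add hπ] at h
      rw [h, vadd_comm_all]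
    have h2 := vadd_left_inj h1
    have h4 := h3' v
    rw [h2] at h4
    exact hv h4
  have hb0 : b ≠ 0 := fun h => ha0 (π.injective (h.trans (O_zero hπ).symm))
  have hab0 : vadd a b ≠ 0 := fun h => hna (vadd_eq_zero h).symm
  have haba : vadd a b ≠ a := fun h => hb0 (vadd_left_inj (h.trans (vadd_zero a).symm))
  have habb : vadd a b ≠ b := fun h => ha0 (by
    rw [vadd_comm_all] at h
    exact vadd_left_inj (h.trans (vadd_zero b).symm))
  have hS : ({0, a, b, vadd a b} : Finset (Fin 64)) = Finset.univ.image D := by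
    refine Finset.eq_of_subset_of_card_le ?_ ?_
    · intro w hw
      simp only [Finset.mem_insert, Finset.mem_singleton] at hw
      rw [Finset.mem_image]
      rcases hw with rfl | rfl | rfl | rfl
      · exact ⟨0, Finset.mem_univ _, (Dzero 0).2 (O_zero hπ)⟩
      · exact ⟨v, Finset.mem_univ _, rfl⟩
      · exact ⟨π v, Finset.mem_univ _, hbD.symm⟩
      · exact ⟨a, Finset.mem_univ _, hab.symm⟩
    · refine him.trans_eq (Eq.symm ?_)
      rw [Finset.card_insert_of_notMem (by simp [ha0.symm, hb0.symm, hab0.symm]),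
        Finset.card_insert_of_notMem (by simp [hna.symm, haba.symm]), Finset.card_pair habb.symm]
  have hπb : π b = vadd a b := by
    have h : D b ∈ Finset.univ.image D := Finset.mem_image_of_mem _ (Finset.mem_univ b)
    have hb' : vadd b (D b) = π b := vadd_cancel b (π b)
    rw [← hS] at h
    simp only [Finset.mem_insert, Finset.mem_singleton] at h
    rcases h with h | h | h | h <;> rw [h] at hb'
    · rw [vadd_zero] at hb'
      exact absurd (π.injective (hb'.symm.trans rfl)) hna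
    · rw [← hb', vadd_comm_all]
    · rw [vadd_self] at hb'
      exact absurd (π.injective (hb'.symm.trans (O_zero hπ).symm)) hb0
    · rw [vadd_comm_all a b, vadd_cancel] at hb'
      have h5 := h3' a
      rw [← hb, ← hb'] at h5
      exact absurd h5 hna
  have hinv : ∀ w, π (π⁻¹ w) = w := fun w => by simp
  have hπinv : π⁻¹ a = vadd a b := π.injective (by
    rw [hinv, O_add hπ, ← hb, hπb, vadd_comm_all a b, vadd_cancel])
  have hπinvb : π⁻¹ b = a := π.injective (by rw [hinv])
  have hDa : ∀ x, bl (D x) a = bl x b := fun x => by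
    have h : bl (π x) a = bl x (π⁻¹ a) := by
      rw [← O_bl hπ x (π⁻¹ a), hinv]
    simp only [hD, bl_vadd_left, h, hπinv, bl_vadd_right]
    cases bl x a <;> cases bl x b <;> rfl
  have hDb : ∀ x, bl (D x) b = (bl x b ^^ bl x a) := fun x => by
    have h : bl (π x) b = bl x (π⁻¹ b) := by
      rw [← O_bl hπ x (π⁻¹ b), hinv]
    simp only [hD, bl_vadd_left, h, hπinvb]
  have hqb : qb b = qb a := O_q hπ a
  have hbl : bl a b = qb a := by
    have h := O_q hπ b
    rw [hπb, qb_vadd, hqb] at h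
    cases hq : qb a <;> rw [hq] at h <;> simpa using h
  have hq : qb a = true := by
    by_contra hq
    rw [Bool.not_eq_true] at hq
    rw [hq] at hbl
    -- the plane is totally singular, so `a` is orthogonal to the image
    have horth : ∀ x, bl (D x) a = false := fun x => by
      have h : D x ∈ Finset.univ.image D := Finset.mem_image_of_mem _ (Finset.mem_univ x)
      rw [← hS] at h
      simp only [Finset.mem_insert, Finset.mem_singleton] at h
      rcases h with h | h | h | h <;>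
        simp [h, bl_vadd_left, bl_self, bl_comm_all b a, hbl, bl_zero_left]
    exact hb0 (bl_nondeg b fun x => by rw [bl_comm_all, ← hDa]; exact horth x)
  have hbl' : bl a b = true := hbl.trans hq
  refine ⟨a, b, hq, hqb.trans hq, hbl', fun x => ?_⟩
  have hDx : D x = vadd (sel (bl x a ^^ bl x b) a) (sel (bl x b) b) := by
    have h : D x ∈ Finset.univ.image D := Finset.mem_image_of_mem _ (Finset.mem_univ x)
    rw [← hS] at h
    simp only [Finset.mem_insert, Finset.mem_singleton] at h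
    have e1 := hDa x
    have e2 := hDb x
    rcases h with h | h | h | h <;> rw [h] at e1 e2 ⊢ <;>
      simp only [bl_vadd_left, bl_self, bl_comm_all b a, hbl', bl_zero_left] at e1 e2 <;>
      cases hxa : bl x a <;> cases hxb : bl x b <;> rw [hxa, hxb] at e2 <;>
      rw [hxb] at e1 <;>
      simp [sel, vadd_zero, zero_vadd, vadd_self] at e1 e2 ⊢
  unfold planeRot
  rw [← hDx, vadd_cancel]

/-- An orthogonal map with large fixed space and order three is moved to the reference plane. -/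
theorem exists_planeRot_ref {R : Subgroup (Perm (Fin 64))} (hR : R ≤ O)
    (hc : Nat.card R = 25920) {π : Perm (Fin 64)} (hπ : π ∈ O) (h3 : π ^ 3 = 1) (hne : π ≠ 1)
    (hfix : 16 ≤ (Finset.univ.filter fun x => π x = x).card) :
    ∃ r ∈ R, ∃ u ∈ planeRef, ∃ v ∈ planeRef, u ≠ v ∧
      ∀ x, (r * π * r⁻¹) x = planeRot u v x := by
  obtain ⟨a, b, ha, hb, hab, hF⟩ := exists_planeRot hπ h3 hne hfix
  obtain ⟨e, he, hea, heb⟩ := planeWit_complete a b ha hb hab
  set r := P e.2.2.2.1 * P e.2.2.2.2 with hr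
  have hrO : r ∈ O := mul_mem (P_mem _) (P_mem _)
  have hap : ∀ w, r w = (nm e.2.2.2.1).ap ((nm e.2.2.2.2).ap w) := fun w => by
    rw [hr, Perm.mul_apply, P_apply, P_apply]
  refine ⟨r, mul_mem (named_mem hR hc _) (named_mem hR hc _), r a, ?_, r b, ?_, ?_, ?_⟩
  · rw [hap]; exact planeWit_ok e he a hea
  · rw [hap]; exact planeWit_ok e he b heb
  · intro h
    rw [r.injective h, bl_self] at hab
    exact Bool.noConfusion hab
  · intro x
    rw [Perm.mul_apply, Perm.mul_apply, hF, planeRot_conj hrO,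
      show r (r⁻¹ x) = x by simp]

/-- Maps of order three with large fixed space generate conjugate subgroups. -/
theorem planeRot_class {R : Subgroup (Perm (Fin 64))} (hR : R ≤ O) (hc : Nat.card R = 25920)
    {π π' : Perm (Fin 64)} (hπ : π ∈ R) (hπ' : π' ∈ R) (h3 : π ^ 3 = 1) (hne : π ≠ 1)
    (hfix : 16 ≤ (Finset.univ.filter fun x => π x = x).card) (h3' : π' ^ 3 = 1) (hne' : π' ≠ 1)
    (hfix' : 16 ≤ (Finset.univ.filter fun x => π' x = x).card) :
    ∃ r ∈ R, r * π * r⁻¹ ∈ Subgroup.zpowers π' := by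
  obtain ⟨r, hr, u, hu, v, hv, huv, he⟩ := exists_planeRot_ref hR hc (hR hπ) h3 hne hfix
  obtain ⟨r', hr', u', hu', v', hv', huv', he'⟩ :=
    exists_planeRot_ref hR hc (hR hπ') h3' hne' hfix'
  refine ⟨r'⁻¹ * r, mul_mem (inv_mem hr') hr, ?_⟩
  rw [show r'⁻¹ * r * π * (r'⁻¹ * r)⁻¹ = r'⁻¹ * (r * π * r⁻¹) * r' by group]
  rcases planeRot_ref u hu v hv u' hu' v' hv' huv huv' with h | h
  · rw [show r * π * r⁻¹ = r' * π' * r'⁻¹ from Equiv.ext fun x => by rw [he, he', h],
      show r'⁻¹ * (r' * π' * r'⁻¹) * r' = π' by group]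
    exact Subgroup.mem_zpowers _
  · have h1 : r * π * r⁻¹ * (r' * π' * r'⁻¹) = 1 := Equiv.ext fun x => by
      rw [Perm.mul_apply, he', he, h, Perm.one_apply]
    rw [eq_inv_of_mul_eq_one_left h1, show r'⁻¹ * (r' * π' * r'⁻¹)⁻¹ * r' = π'⁻¹ by group]
    exact inv_mem (Subgroup.mem_zpowers _)

namespace Model

variable {G : Type*} [Group G] [Finite G]
variable {z : G} {Q : Subgroup G} {f : G → Fin 64} {ρ : Cz z →* Perm (Fin 64)}
variable (M : Model z Q f ρ)

include M

omit [Finite G] in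
theorem img_three {y : G} (hy : y ∈ Cz z) (ho : orderOf y = 3) :
    ρ ⟨y, hy⟩ ^ 3 = 1 ∧ ρ ⟨y, hy⟩ ≠ 1 := by
  refine ⟨?_, fun h => ?_⟩
  · rw [← map_pow]
    have : (⟨y, hy⟩ : Cz z) ^ 3 = 1 := Subtype.ext (by simp [← ho, pow_orderOf_eq_one])
    rw [this, map_one]
  · have h1 := Subgroup.orderOf_dvd_natCard Q ((M.ρ_ker ⟨y, hy⟩).1 h)
    rw [ho, M.card] at h1
    norm_num at h1

/-- The fixed space is large if the centraliser in `Q` is large. -/
theorem fix_of_cent {y : G} (hy : y ∈ Cz z)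
    (h : 32 ≤ Nat.card ↥(Q ⊓ Subgroup.centralizer ({y} : Set G))) :
    16 ≤ (Finset.univ.filter fun x => ρ ⟨y, hy⟩ x = x).card := by
  classical
  haveI := Fintype.ofFinite G
  set S := Finset.univ.filter fun x => ρ ⟨y, hy⟩ x = x with hS
  set A := Finset.univ.filter fun q : G => q ∈ Q ⊓ Subgroup.centralizer ({y} : Set G) with hA
  have hcard : A.card = Nat.card ↥(Q ⊓ Subgroup.centralizer ({y} : Set G)) := by
    rw [Nat.card_eq_fintype_card, Fintype.card_subtype]
  have hmem : ∀ q ∈ A, f q ∈ S := fun q hq => by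
    rw [hA, Finset.mem_filter, Subgroup.mem_inf, Subgroup.mem_centralizer_singleton_iff] at hq
    rw [hS, Finset.mem_filter]
    refine ⟨Finset.mem_univ _, ?_⟩
    rw [M.ρ_conj ⟨y, hy⟩ q hq.2.1, ← hq.2.2, mul_inv_cancel_right]
  have h2 : ∀ v ∈ S, (A.filter fun q => f q = v).card ≤ 2 := fun v _ => by
    obtain ⟨q, hq, rfl⟩ := M.f_surj v
    refine (Finset.card_le_card (t := {q, q * z}) fun r hr => ?_).trans Finset.card_le_two
    rw [Finset.mem_filter, hA, Finset.mem_filter, Subgroup.mem_inf] at hr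
    rw [Finset.mem_insert, Finset.mem_singleton]
    exact M.f_eq hq hr.1.2.1 hr.2.symm
  have := Finset.card_le_mul_card_image_of_maps_to hmem 2 h2
  omega

omit [Finite G] in
/-- The subgroup over a cyclic group of order three. -/
theorem comap_card {π : Perm (Fin 64)} (hπ : π ∈ ρ.range) (ho : orderOf π = 3) :
    Nat.card ((Subgroup.zpowers π).comap ρ) = 384 := by
  set K := (Subgroup.zpowers π).comap ρ with hK
  have hle : ρ.ker ≤ K := fun c hc => by
    rw [hK, Subgroup.mem_comap, MonoidHom.mem_ker.1 hc]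
    exact one_mem _
  have h1 : ρ.ker.relIndex K = 3 := by
    rw [Subgroup.relIndex_ker, hK, Subgroup.map_comap_eq_self ((Subgroup.zpowers_le).2 hπ),
      Nat.card_zpowers, ho]
  have h2 : Nat.card ρ.ker = 128 := by
    rw [← M.card]
    exact Nat.card_congr
      { toFun := fun c => ⟨c.1.1, (M.ρ_ker c.1).1 c.2⟩
        invFun := fun q => ⟨⟨q.1, M.le q.2⟩, (M.ρ_ker _).2 q.2⟩
        left_inv := fun _ => rfl
        right_inv := fun _ => rfl }
  have h3 := (ρ.ker.subgroupOf K).card_mul_index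
  rw [Nat.card_congr (Subgroup.subgroupOfEquivOfLe hle).toEquiv, h2] at h3
  rw [Subgroup.relIndex] at h1
  rw [h1] at h3
  exact h3.symm

/-- Subgroups of order three with large centraliser in `Q` are conjugate. -/
theorem three_conj {y y' : G} (hy : y ∈ Cz z) (hy' : y' ∈ Cz z)
    (ho : orderOf y = 3) (ho' : orderOf y' = 3)
    (h : 32 ≤ Nat.card ↥(Q ⊓ Subgroup.centralizer ({y} : Set G)))
    (h' : 32 ≤ Nat.card ↥(Q ⊓ Subgroup.centralizer ({y'} : Set G))) :
    ∃ c ∈ Cz z, (Subgroup.zpowers y).map (MulAut.conj c).toMonoidHom = Subgroup.zpowers y' := by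
  haveI : Fact (Nat.Prime 3) := ⟨Nat.prime_three⟩
  obtain ⟨h3, hne⟩ := M.img_three hy ho
  obtain ⟨h3', hne'⟩ := M.img_three hy' ho'
  have hπ : ρ ⟨y, hy⟩ ∈ ρ.range := ⟨_, rfl⟩
  have hπ' : ρ ⟨y', hy'⟩ ∈ ρ.range := ⟨_, rfl⟩
  obtain ⟨r, ⟨g, rfl⟩, hr⟩ := planeRot_class M.range_le M.ρ_card hπ hπ' h3 hne
    (M.fix_of_cent hy h) h3' hne' (M.fix_of_cent hy' h')
  have hoπ : orderOf (ρ ⟨y', hy'⟩) = 3 := orderOf_eq_prime h3' hne'
  set K := (Subgroup.zpowers (ρ ⟨y', hy'⟩)).comap ρ with hK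
  have hcK := M.comap_card hπ' hoπ
  set x : Cz z := g * ⟨y, hy⟩ * g⁻¹ with hx
  have hxK : x ∈ K := by rw [hK, Subgroup.mem_comap, hx, map_mul, map_mul, map_inv]; exact hr
  have hyK : (⟨y', hy'⟩ : Cz z) ∈ K := by
    rw [hK, Subgroup.mem_comap]
    exact Subgroup.mem_zpowers _
  have syl : ∀ w : K, orderOf w = 3 → ∃ S : Sylow 3 K, (S : Subgroup K) = Subgroup.zpowers w := by
    intro w hw
    have hpg : IsPGroup 3 (Subgroup.zpowers w) :=
      IsPGroup.of_card (n := 1) (by rw [Nat.card_zpowers, hw, pow_one])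
    have hi : ¬ 3 ∣ (Subgroup.zpowers w).index := by
      have h4 := (Subgroup.zpowers w).card_mul_index
      rw [Nat.card_zpowers, hw, hcK] at h4
      rw [show (Subgroup.zpowers w).index = 128 by omega]
      norm_num
    exact ⟨hpg.toSylow hi, rfl⟩
  have hox : orderOf (⟨x, hxK⟩ : K) = 3 := by
    rw [← Subgroup.orderOf_coe, ← Subgroup.orderOf_coe]
    show orderOf ((g : G) * y * (g : G)⁻¹) = 3
    rw [← ho]
    exact orderOf_injective (MulAut.conj (g : G)).toMonoidHom (MulEquiv.injective _) y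
  have hoy : orderOf (⟨⟨y', hy'⟩, hyK⟩ : K) = 3 := by
    rw [← Subgroup.orderOf_coe, ← Subgroup.orderOf_coe]
    exact ho'
  obtain ⟨S, hS⟩ := syl _ hox
  obtain ⟨S', hS'⟩ := syl _ hoy
  obtain ⟨k, hk⟩ := MulAction.exists_smul_eq K S S'
  refine ⟨((k : Cz z) : G) * (g : G), mul_mem (k : Cz z).2 g.2, ?_⟩
  have hmap : (Subgroup.zpowers (⟨x, hxK⟩ : K)).map (MulAut.conj k).toMonoidHom =
      Subgroup.zpowers ⟨⟨y', hy'⟩, hyK⟩ := by
    rw [← hS, ← hS', ← hk]
    rfl
  have hmap' := congrArg (Subgroup.map ((Cz z).subtype.comp K.subtype)) hmap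
  rw [MonoidHom.map_zpowers, MonoidHom.map_zpowers, MonoidHom.map_zpowers] at hmap'
  rw [MonoidHom.map_zpowers]
  refine Eq.trans (congrArg Subgroup.zpowers ?_) hmap'
  show ((k : Cz z) : G) * g * y * (((k : Cz z) : G) * g)⁻¹ =
    ((k : Cz z) : G) * ((g : G) * y * (g : G)⁻¹) * ((k : Cz z) : G)⁻¹
  group

/-- An element of order three whose commutator group in `Q` is nonabelian of order eight
centralises at least 32 elements of `Q`. -/
theorem cent_of_comm {y : G} (hy : y ∈ Cz z) (ho : orderOf y = 3)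
    (h8 : Nat.card ↥⁅Q, Subgroup.zpowers y⁆ = 8)
    (hna : ¬ IsMulCommutative ↥⁅Q, Subgroup.zpowers y⁆) :
    32 ≤ Nat.card ↥(Q ⊓ Subgroup.centralizer ({y} : Set G)) := by
  classical
  haveI := Fintype.ofFinite G
  set π := ρ ⟨y, hy⟩ with hπdef
  set C := ⁅Q, Subgroup.zpowers y⁆ with hC
  have hCQ : C ≤ Q := by
    rw [hC, Subgroup.commutator_le]
    intro q hq w hw
    have hwC : w ∈ Cz z := (Subgroup.zpowers_le.2 hy) hw
    rw [commutatorElement_def, show q * w * q⁻¹ * w⁻¹ = q * (w * q⁻¹ * w⁻¹) by group]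
    exact mul_mem hq (M.normal w hwC _ (inv_mem hq))
  have hzC : z ∈ C := by
    by_contra hz
    refine hna ⟨⟨fun ⟨q, hq⟩ ⟨r, hr⟩ => Subtype.ext ?_⟩⟩
    show q * r = r * q
    have h1 := M.comm (hCQ hq) (hCQ hr)
    cases hb : bl (f q) (f r)
    · rw [h1, hb, zp_false, one_mul]
    · rw [hb, zp_true] at h1
      refine absurd ?_ hz
      rw [show z = r * q * (q * r)⁻¹ by rw [h1]; group]
      exact mul_mem (mul_mem hr hq) (inv_mem (mul_mem hq hr))
  set A := Finset.univ.filter fun q : G => q ∈ C with hA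
  have hAc : A.card = 8 := by rw [← h8, Nat.card_eq_fintype_card, Fintype.card_subtype]
  have him : (A.image f).card ≤ 4 := by
    have hfib : ∀ w ∈ A.image f, 2 ≤ (A.filter fun q => f q = w).card := by
      intro w hw
      obtain ⟨q, hq, rfl⟩ := Finset.mem_image.1 hw
      rw [hA, Finset.mem_filter] at hq
      refine (Finset.card_pair (a := q) (b := q * z) ?_).symm.le.trans
        (Finset.card_le_card fun r hr => ?_)
      · exact fun e => M.z_ne (mul_eq_left.1 e.symm)
      rw [Finset.mem_insert, Finset.mem_singleton] at hr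
      rw [Finset.mem_filter, hA, Finset.mem_filter]
      rcases hr with rfl | rfl
      · exact ⟨⟨Finset.mem_univ _, hq.2⟩, rfl⟩
      · exact ⟨⟨Finset.mem_univ _, mul_mem hq.2 hzC⟩, M.f_mul_z (hCQ hq.2)⟩
    have h := Finset.card_eq_sum_card_image f A
    have h' := Finset.card_nsmul_le_sum _ _ _ hfib
    rw [← h, hAc, smul_eq_mul] at h'
    omega
  have hπO : π ∈ O := M.range_le ⟨_, rfl⟩
  set D : Fin 64 → Fin 64 := fun v => vadd v (π v) with hD
  have hDim : (Finset.univ.image D).card ≤ 4 := by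
    refine le_trans (Finset.card_le_card fun v hv => ?_) him
    obtain ⟨u, -, rfl⟩ := Finset.mem_image.1 hv
    obtain ⟨q, hq, rfl⟩ := M.f_surj u
    refine Finset.mem_image.2 ⟨⁅q, y⁆, ?_, ?_⟩
    · rw [hA, Finset.mem_filter]
      exact ⟨Finset.mem_univ _, Subgroup.commutator_mem_commutator hq (Subgroup.mem_zpowers y)⟩
    · rw [commutatorElement_def, show q * y * q⁻¹ * y⁻¹ = q * (y * q⁻¹ * y⁻¹) by group,
        M.f_mul q hq _ (M.normal y hy _ (inv_mem hq)), ← M.ρ_conj ⟨y, hy⟩ q⁻¹ (inv_mem hq),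
        M.f_inv hq]
  set S := Finset.univ.filter fun v => π v = v with hS
  have hfib : ∀ w ∈ Finset.univ.image D,
      (Finset.univ.filter fun v => D v = w).card ≤ S.card := by
    intro w hw
    obtain ⟨x₀, -, rfl⟩ := Finset.mem_image.1 hw
    refine Finset.card_le_card_of_injOn (fun x => vadd x₀ x) ?_ ?_
    · intro x hx
      simp only [Finset.coe_filter, Finset.mem_univ, true_and, Set.mem_ofPred_eq, hD, hS] at hx ⊢
      refine (vadd_eq_zero ?_).symm
      rw [O_add hπO, vadd_four, hx, vadd_self]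
    · intro x _ y _ h
      exact vadd_left_inj h
  have hfix : 16 ≤ S.card := by
    have h := Finset.card_le_mul_card_image (Finset.univ : Finset (Fin 64)) S.card hfib
    rw [Finset.card_univ, Fintype.card_fin] at h
    nlinarith
  have hlift : ∀ q ∈ Q, π (f q) = f q → q * y = y * q := by
    intro q hq hfq
    rw [hπdef, M.ρ_conj ⟨y, hy⟩ q hq] at hfq
    have hqc := M.normal y hy q hq
    rcases M.f_eq hq hqc hfq.symm with h | h
    · calc q * y = y * q * y⁻¹ * y := by rw [h]
        _ = y * q := by group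
    · exfalso
      have h3 : y * y * y = 1 := by rw [← pow_three', ← ho, pow_orderOf_eq_one]
      have hcz : y * z * y⁻¹ = z := by rw [mem_Cz.1 hy, mul_inv_cancel_right]
      have e2 : y * (y * q * y⁻¹) * y⁻¹ = q := by
        rw [h, show y * (q * z) * y⁻¹ = y * q * y⁻¹ * (y * z * y⁻¹) by group, h, hcz,
          mul_assoc, M.zz, mul_one]
      have e3 : y * (y * (y * q * y⁻¹) * y⁻¹) * y⁻¹ = q * z := by rw [e2, h]
      have e4 : y * y * y * q * (y * y * y)⁻¹ = q * z := by rw [← e3]; group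
      rw [h3, one_mul, inv_one, mul_one] at e4
      exact M.z_ne (mul_eq_left.1 e4.symm)
  set B := Finset.univ.filter fun q : G => q ∈ Q ⊓ Subgroup.centralizer ({y} : Set G) with hB
  have hBc : B.card = Nat.card ↥(Q ⊓ Subgroup.centralizer ({y} : Set G)) := by
    rw [Nat.card_eq_fintype_card, Fintype.card_subtype]
  have h2 : ∀ v ∈ S, 2 ≤ (B.filter fun q => f q = v).card := by
    intro v hv
    rw [hS, Finset.mem_filter] at hv
    obtain ⟨q, hq, rfl⟩ := M.f_surj v
    refine (Finset.card_pair (a := q) (b := q * z) ?_).symm.le.trans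
      (Finset.card_le_card fun r hr => ?_)
    · exact fun e => M.z_ne (mul_eq_left.1 e.symm)
    rw [Finset.mem_insert, Finset.mem_singleton] at hr
    have hr' : r ∈ Q ∧ f r = f q := by
      rcases hr with rfl | rfl
      · exact ⟨hq, rfl⟩
      · exact ⟨mul_mem hq M.z_mem, M.f_mul_z hq⟩
    rw [Finset.mem_filter, hB, Finset.mem_filter, Subgroup.mem_inf,
      Subgroup.mem_centralizer_singleton_iff]
    exact ⟨⟨Finset.mem_univ _, hr'.1, hlift r hr'.1 (hr'.2.symm ▸ hv.2)⟩, hr'.2⟩
  have hd : ((S : Set (Fin 64))).PairwiseDisjoint fun v => B.filter fun q => f q = v := by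
    intro v _ w _ hvw
    exact Finset.disjoint_left.2 fun q hq hq' =>
      hvw (((Finset.mem_filter.1 hq).2).symm.trans (Finset.mem_filter.1 hq').2)
  have h5 := Finset.card_le_card (s := S.biUnion fun v => B.filter fun q => f q = v) (t := B)
    (Finset.biUnion_subset.2 fun v _ => Finset.filter_subset _ _)
  rw [Finset.card_biUnion hd] at h5
  have h6 := Finset.card_nsmul_le_sum _ _ _ h2
  rw [smul_eq_mul] at h6
  omega

end Model

end CfsgLib.Small.SuzTwo
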